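import Cfsg.Agent.Lib.DihBlock.Basic

/-!
# Dihedral Sylow 2-subgroups: normal 2-complements of the centralizers, fusion of rotations
-/

set_option autoImplicit false
set_option linter.unusedSectionVars false

namespace CfsgLib.DihBlock

open Cfsg

variable {G : Type*} [Group G] [Finite G]
variable {P : Sylow 2 G} {σ τ : G} {m : ℕ} (D : Data P σ τ m)
include D

theorem eq_z_of_sq {x : G} (hx : x ∈ Subgroup.zpowers σ) (h : x * x = 1) (h1 : x ≠ 1) : x = σ ^ m := by
  obtain ⟨l, hl⟩ := (mem_powers_iff_mem_zpowers (x := σ)).mpr hx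
  obtain rfl : σ ^ l = x := hl
  have hlm := Nat.mod_lt l (show 0 < 2 * m by have := two_le D; omega)
  have e : σ ^ l = σ ^ (l % (2 * m)) := by rw [← D.ordσ, pow_mod_orderOf]
  rw [e] at h h1 ⊢
  rcases Nat.eq_zero_or_pos (l % (2 * m)) with h0 | h0
  · exact absurd (by rw [h0, pow_zero]) h1
  · rw [(pow_sq_eq_one_iff D h0 hlm).mp h]

theorem z_mem_zpowers {x : G} (hx : x ∈ Subgroup.zpowers σ) (h1 : x ≠ 1) :
    σ ^ m ∈ Subgroup.zpowers x := by
  haveI := Fact.mk Nat.prime_two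
  obtain ⟨j, hj⟩ := exists_orderOf D (Subgroup.zpowers_le.mpr D.memσ hx)
  rcases Nat.eq_zero_or_pos j with rfl | hj0
  · exact absurd (orderOf_eq_one_iff.mp (hj.trans (pow_zero 2))) h1
  have h2 : orderOf (x ^ 2 ^ (j - 1)) = 2 := by
    rw [orderOf_pow_of_dvd (by positivity) (hj ▸ pow_dvd_pow 2 (Nat.sub_le j 1)), hj,
      Nat.pow_div (Nat.sub_le j 1) two_pos, show j - (j - 1) = 1 by omega, pow_one]
  rw [← eq_z_of_sq D (pow_mem hx _) (Invol.mul_self_of_orderOf_two h2) (Invol.ne_one_of_orderOf_two h2)]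
  exact pow_mem (Subgroup.mem_zpowers x) _

theorem centralizer_le_z {x : G} (hx : x ∈ Subgroup.zpowers σ) (h1 : x ≠ 1) {g : G}
    (hg : g ∈ Subgroup.centralizer ({x} : Set G)) : Commute g (σ ^ m) := by
  obtain ⟨k, hk⟩ := Subgroup.mem_zpowers_iff.mp (z_mem_zpowers D hx h1)
  rw [← hk]
  exact (show Commute g x from Subgroup.mem_centralizer_singleton_iff.mp hg).zpow_right k

theorem z_centralizer :
    ∃ Q : Sylow 2 (Subgroup.centralizer ({σ ^ m} : Set G)), Nat.card Q = 4 * m ∧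
      (Q : Subgroup (Subgroup.centralizer ({σ ^ m} : Set G))).map
        (Subgroup.centralizer ({σ ^ m} : Set G)).subtype = (P : Subgroup G) ∧
      HasNormalPComplement 2 (Subgroup.centralizer ({σ ^ m} : Set G)) := by
  have hK : (P : Subgroup G) ⊓ Subgroup.centralizer ({σ ^ m} : Set G) = P :=
    inf_eq_left.mpr (sylow_le_centralizer_z D)
  obtain ⟨Q, hQ⟩ := exists_sylow_centralizer D (pow_mem D.memσ m) fun g _ => by
    rw [hK]; exact Subgroup.card_le_of_le inf_le_left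
  rw [hK] at hQ
  refine ⟨Q, ?_, hQ, npc_of_fixed D Q hQ fun R hR g hg hodd hn => fixed_of_commute_z D hR hodd hn
    (show Commute g (σ ^ m) from Subgroup.mem_centralizer_singleton_iff.mp hg)⟩
  rw [← D.card, ← hQ, Subgroup.card_map_of_injective (Subgroup.subtype_injective _)]

theorem rot_centralizer {x : G} (hx : x ∈ Subgroup.zpowers σ) (h2 : x * x ≠ 1) :
    ∃ Q : Sylow 2 (Subgroup.centralizer ({x} : Set G)), Nat.card Q = 2 * m ∧
      HasNormalPComplement 2 (Subgroup.centralizer ({x} : Set G)) := by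
  have hcent : ∀ y ∈ Subgroup.zpowers σ, y * y ≠ 1 →
      (P : Subgroup G) ⊓ Subgroup.centralizer ({y} : Set G) = Subgroup.zpowers σ := by
    intro y hy hy2
    obtain ⟨l, hl⟩ := (mem_powers_iff_mem_zpowers (x := σ)).mpr hy
    obtain rfl : σ ^ l = y := hl
    exact card_centralizer_rot D hy2
  have hK := hcent x hx h2
  obtain ⟨Q, hQ⟩ := exists_sylow_centralizer D (Subgroup.zpowers_le.mpr D.memσ hx) fun g hg => by
    have h2' : g * x * g⁻¹ * (g * x * g⁻¹) ≠ 1 := fun e => h2 (by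
      rw [show g * x * g⁻¹ * (g * x * g⁻¹) = g * (x * x) * g⁻¹ by group] at e
      exact conj_eq_one_iff.mp e)
    rw [hK, hcent _ (mem_zpowers_of_orderOf D hg h2') h2']
  rw [hK] at hQ
  refine ⟨Q, ?_, npc_of_fixed D Q hQ fun R hR g hg hodd hn => fixed_of_commute_z D
    (hR.trans (Subgroup.zpowers_le.mpr D.memσ)) hodd hn
    (centralizer_le_z D hx (fun e => h2 (by rw [e, one_mul])) hg)⟩
  rw [← D.ordσ, ← Nat.card_zpowers, ← hQ, Subgroup.card_map_of_injective (Subgroup.subtype_injective _)]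

theorem tau_centralizer (hz : ¬ IsConj (σ ^ m) τ) :
    ∃ Q : Sylow 2 (Subgroup.centralizer ({τ} : Set G)), Nat.card Q = 4 ∧
      HasNormalPComplement 2 (Subgroup.centralizer ({τ} : Set G)) := by
  have h4 : ∀ i : ℕ, Nat.card ↥((P : Subgroup G) ⊓ Subgroup.centralizer ({σ ^ i * τ} : Set G)) = 4 :=
    card_centralizer_refl D
  have h40 := h4 0
  rw [pow_zero, one_mul] at h40
  obtain ⟨Q, hQ⟩ := exists_sylow_centralizer D D.memτ fun g hg => by
    obtain ⟨i, hi | hi⟩ := D.cases _ hg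
    · exfalso
      have ho : orderOf (g * τ * g⁻¹) = 2 := Invol.conj_orderOf_two (orderOf_tau D) g
      rw [hi] at ho
      have e := eq_z_of_sq D (pow_mem (Subgroup.mem_zpowers σ) i) (Invol.mul_self_of_orderOf_two ho)
        (Invol.ne_one_of_orderOf_two ho)
      exact hz (isConj_iff.mpr ⟨g, by rw [hi, e]⟩ : IsConj τ (σ ^ m)).symm
    · rw [hi, h4, h40]
  refine ⟨Q, ?_, npc_of_fixed D Q hQ fun R hR g hg hodd hn => ?_⟩
  · rw [← h40, ← hQ, Subgroup.card_map_of_injective (Subgroup.subtype_injective _)]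
  have hmem : ∀ a ∈ R, g * a * g⁻¹ ∈ R := fun a ha => (Subgroup.mem_normalizer_iff.mp hn a).mp ha
  have hgτ : g * τ * g⁻¹ = τ := mul_inv_eq_iff_eq_mul.mpr (Subgroup.mem_centralizer_singleton_iff.mp hg)
  have hcl : ∀ a ∈ R, a = 1 ∨ a = σ ^ m ∨ a = τ ∨ a = σ ^ m * τ := fun a ha => by
    have h := centralizer_refl D 0 a (by simpa using hR ha)
    simpa using h
  have hlow : ∀ a ∈ R, a = σ ^ m ∨ a = σ ^ m * τ → g * a * g⁻¹ = σ ^ m ∨ g * a * g⁻¹ = σ ^ m * τ := by
    intro a ha hcase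
    rcases hcl _ (hmem a ha) with h | h | h | h
    · exfalso
      have e := conj_eq_one_iff.mp h
      rcases hcase with rfl | rfl
      · exact Invol.ne_one_of_orderOf_two (orderOf_z D) e
      · exact refl_not_mem D m (e ▸ one_mem _)
    · exact Or.inl h
    · exfalso
      have e : a = τ := by
        rw [← hgτ] at h
        exact mul_left_cancel (mul_right_cancel h)
      rcases hcase with rfl | rfl
      · exact tau_not_mem D (e ▸ pow_mem (Subgroup.mem_zpowers σ) m)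
      · exact Invol.ne_one_of_orderOf_two (orderOf_z D) (mul_eq_right.mp e)
    · exact Or.inr h
  intro b hb
  rcases hcl b hb with rfl | hb' | rfl | hb'
  · simp
  rotate_left
  · exact hgτ
  all_goals
    have hcase : b = σ ^ m ∨ b = σ ^ m * τ := by first | exact Or.inl hb' | exact Or.inr hb'
    have hr : g * (b⁻¹ * (g * b * g⁻¹)) * g⁻¹ = b⁻¹ * (g * b * g⁻¹) := by
      have hval : b⁻¹ * (g * b * g⁻¹) = 1 ∨ b⁻¹ * (g * b * g⁻¹) = τ := by
        have hzi : (σ ^ m)⁻¹ = σ ^ m := inv_eq_of_mul_eq_one_left (z_mul_self D)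
        rcases hcase with rfl | rfl <;> rcases hlow _ hb (by simp) with h | h <;> rw [h]
        · exact Or.inl (inv_mul_cancel _)
        · exact Or.inr (inv_mul_cancel_left _ _)
        · refine Or.inr ?_
          rw [mul_inv_rev, hzi, mul_assoc, z_mul_self D, mul_one, inv_eq_of_mul_eq_one_left D.sqτ]
        · exact Or.inl (inv_mul_cancel _)
      rcases hval with e | e <;> rw [e]
      · simp
      · exact hgτ
    have e := eq_one_of_conj_mul hodd (show g * b * g⁻¹ = b * (b⁻¹ * (g * b * g⁻¹)) by simp) hr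
      (exists_orderOf D ((hR (mul_mem (inv_mem hb) (hmem b hb)) : _).1))
    exact (inv_mul_eq_one.mp e).symm

/-- Rotations conjugate in `G` are equal or inverse. -/
theorem rot_fusion {l l' : ℕ} (h0 : 0 < l) (hl : l < 2 * m) (h0' : 0 < l') (hl' : l' < 2 * m)
    (h : IsConj (σ ^ l) (σ ^ l')) : l = l' ∨ l + l' = 2 * m := by
  classical
  obtain ⟨c, hc⟩ := isConj_iff.mp h
  have hmemσ : ∀ j, σ ^ j ∈ Subgroup.zpowers σ := fun j => pow_mem (Subgroup.mem_zpowers σ) j
  -- the conjugating element centralizes `z`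
  have hcz : c ∈ Subgroup.centralizer ({σ ^ m} : Set G) := by
    obtain ⟨k, hk⟩ := Subgroup.mem_zpowers_iff.mp (z_mem_zpowers D (hmemσ l) (pow_ne_one D h0 hl))
    have hz : c * σ ^ m * c⁻¹ = (σ ^ l') ^ k := by rw [← hk, ← conj_zpow, hc]
    have h2 := Invol.conj_orderOf_two (orderOf_z D) c
    rw [hz] at h2
    have e := eq_z_of_sq D ((Subgroup.zpowers σ).zpow_mem (hmemσ l') k) (Invol.mul_self_of_orderOf_two h2)
      (Invol.ne_one_of_orderOf_two h2)
    rw [e] at hz
    exact Subgroup.mem_centralizer_singleton_iff.mpr (mul_inv_eq_iff_eq_mul.mp hz)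
  obtain ⟨Q, -, hQ, hnpc⟩ := z_centralizer D
  haveI := Fact.mk Nat.prime_two
  haveI := Transfer.pResidual_normal 2 (Subgroup.centralizer ({σ ^ m} : Set G))
  have htop : (⟨c, hcz⟩ : Subgroup.centralizer ({σ ^ m} : Set G)) ∈
      Cfsg.pResidual 2 (Subgroup.centralizer ({σ ^ m} : Set G)) ⊔ (Q : Subgroup _) := by
    rw [sup_comm, Transfer.sylow_sup_pResidual]; trivial
  obtain ⟨w, hw, q, hq, hwq⟩ := Subgroup.mem_sup_of_normal_left.mp htop
  have hqP : (q : G) ∈ (P : Subgroup G) := hQ ▸ Subgroup.mem_map_of_mem _ hq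
  set u := (q : G) * σ ^ l * (q : G)⁻¹ with hu
  have hce : c = (w : G) * (q : G) := by rw [← Subgroup.coe_mul, hwq]
  have hwu : (w : G) * u * (w : G)⁻¹ = σ ^ l' := by rw [← hc, hce, hu]; group
  -- congruent modulo the complement, inside `P`
  have hWc : (Nat.card (Cfsg.pResidual 2 (Subgroup.centralizer ({σ ^ m} : Set G)))).Coprime 2 :=
    ((Nat.prime_two).coprime_iff_not_dvd.mpr (Transfer.hasNormalPComplement_iff_pResidual.mp hnpc)).symm
  have hPC := sylow_le_centralizer_z D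
  have hueq : u = σ ^ l' := by
    have huP : u ∈ (P : Subgroup G) := mul_mem (mul_mem hqP (pow_mem D.memσ l)) (inv_mem hqP)
    have hmemQ : ∀ (x : G) (hx : x ∈ (P : Subgroup G)),
        (⟨x, hPC hx⟩ : Subgroup.centralizer ({σ ^ m} : Set G)) ∈ (Q : Subgroup _) := fun x hx => by
      obtain ⟨y, hy, hyx⟩ := hQ.symm ▸ hx
      exact (show y = (⟨x, hPC hx⟩ : Subgroup.centralizer ({σ ^ m} : Set G)) from Subtype.ext hyx) ▸ hy
    set uC : Subgroup.centralizer ({σ ^ m} : Set G) := ⟨u, hPC huP⟩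
    have e1 : w * uC * w⁻¹ = ⟨σ ^ l', hPC (pow_mem D.memσ l')⟩ := Subtype.ext hwu
    have e2 : w * uC * w⁻¹ * uC⁻¹ = 1 := by
      refine PSolvable.eq_one_of_mem_of_mem Q.2 hWc ?_ ?_
      · rw [e1]
        exact mul_mem (hmemQ _ (pow_mem D.memσ l')) (inv_mem (hmemQ u huP))
      · have h2 : w * (uC * w⁻¹ * uC⁻¹) ∈ Cfsg.pResidual 2 (Subgroup.centralizer ({σ ^ m} : Set G)) :=
          mul_mem hw (Subgroup.Normal.conj_mem inferInstance _ (inv_mem hw) uC)
        simpa [mul_assoc] using h2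
    rw [mul_inv_eq_one, e1] at e2
    exact (congrArg Subtype.val e2).symm
  obtain ⟨i, hi | hi⟩ := D.cases _ hqP
  · left
    rw [hu, hi, ← (Commute.pow_pow (Commute.refl σ) l i).eq, mul_inv_cancel_right, pow_eq_pow_iff D,
      Nat.mod_eq_of_lt hl, Nat.mod_eq_of_lt hl'] at hueq
    exact hueq
  · right
    have e : u = (σ ^ l)⁻¹ := by
      rw [hu, hi, mul_inv_rev, show σ ^ i * τ * σ ^ l * (τ⁻¹ * (σ ^ i)⁻¹) = σ ^ i * (τ * σ ^ l * τ⁻¹) * (σ ^ i)⁻¹ by group,
        tau_conj_pow D, (Commute.pow_pow (Commute.refl σ) i l).inv_right.eq, mul_inv_cancel_right]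
    rw [e, inv_eq_iff_mul_eq_one, ← pow_add, pow_eq_one_iff D] at hueq
    obtain ⟨d, hd⟩ := hueq
    rcases d with _ | _ | d
    · omega
    · omega
    · have : 2 * m * (d + 1 + 1) = 2 * m * d + 4 * m := by ring
      omega

end CfsgLib.DihBlock
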