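import Mathlib

/-!
# Integral vectors of square norms `2, …, 2, 3` with all inner products one
-/

set_option autoImplicit false

namespace CfsgLib.DihBlock

/-- The vectors share exactly one coordinate. -/
theorem sunflower {ι : Type*} (T : Finset ι) (m : ℕ) (hm : 2 ≤ m) (heven : 2 ∣ m)
    (v : ℕ → ι → ℤ) (d : ι → ℤ)
    (hn : ∀ j, 0 < j → j < m → ∑ x ∈ T, v j x * v j x = 2)
    (hnm : ∑ x ∈ T, v m x * v m x = 3)
    (hinner : ∀ i j, 0 < i → i ≤ m → 0 < j → j ≤ m → i ≠ j → ∑ x ∈ T, v i x * v j x = 1)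
    (hd : ∀ j, 0 < j → j ≤ m → ∑ x ∈ T, v j x * d x = -1) :
    ∃ (a : ι) (b : ℕ → ι) (c e : ι), a ∈ T ∧ c ∈ T ∧ e ∈ T ∧ c ≠ a ∧ e ≠ a ∧ c ≠ e ∧
      (v m a = 1 ∨ v m a = -1) ∧ (v m c = 1 ∨ v m c = -1) ∧ (v m e = 1 ∨ v m e = -1) ∧
      (∀ x ∈ T, x ≠ a → x ≠ c → x ≠ e → v m x = 0) ∧
      (∀ j, 0 < j → j < m → b j ∈ T ∧ b j ≠ a ∧ b j ≠ c ∧ b j ≠ e ∧
        (v j (b j) = 1 ∨ v j (b j) = -1) ∧ v j a = v m a ∧ ∀ x ∈ T, x ≠ a → x ≠ b j → v j x = 0) ∧
      (∀ i j, 0 < i → i < m → 0 < j → j < m → b i = b j → i = j) := by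
  classical
  have hnorm : ∀ j, 0 < j → j ≤ m → ∑ x ∈ T, v j x * v j x ≤ 3 := by
    intro j hj hjm
    rcases eq_or_lt_of_le hjm with rfl | h
    · rw [hnm]
    · rw [hn j hj h]; norm_num
  have hpm : ∀ j, 0 < j → j ≤ m → ∀ x ∈ T, v j x = 0 ∨ v j x = 1 ∨ v j x = -1 := by
    intro j hj hjm x hx
    have h1 : v j x * v j x ≤ 3 :=
      (Finset.single_le_sum (f := fun x => v j x * v j x) (fun _ _ => mul_self_nonneg _) hx).trans
        (hnorm j hj hjm)
    have h2 : v j x ≤ 1 := by nlinarith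
    have h3 : -1 ≤ v j x := by nlinarith
    omega
  set S : ℕ → Finset ι := fun j => T.filter fun x => v j x ≠ 0
  have hmS : ∀ {j x}, x ∈ S j ↔ x ∈ T ∧ v j x ≠ 0 := by intro j x; simp [S]
  have hSpm : ∀ j, 0 < j → j ≤ m → ∀ x ∈ S j, v j x = 1 ∨ v j x = -1 := fun j hj hjm x hx =>
    (hpm j hj hjm x (hmS.mp hx).1).resolve_left (hmS.mp hx).2
  have hcard : ∀ j, 0 < j → j ≤ m → ((S j).card : ℤ) = ∑ x ∈ T, v j x * v j x := by
    intro j hj hjm
    rw [← Finset.sum_subset (Finset.filter_subset (fun x => v j x ≠ 0) T) fun x hx hx' => by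
      have : v j x = 0 := by simpa [hx] using hx'
      simp [this]]
    rw [Finset.sum_congr rfl (g := fun _ => (1 : ℤ)) fun x hx => by
      rcases hSpm j hj hjm x hx with h | h <;> simp [h]]
    simp [S]
  have hc2 : ∀ j, 0 < j → j < m → (S j).card = 2 := fun j hj hjm => by
    have := (hcard j hj hjm.le).trans (hn j hj hjm)
    exact_mod_cast this
  -- two supports meet in one point
  have hmeet : ∀ i j, 0 < i → i < m → 0 < j → j ≤ m → i ≠ j →
      ∃ x, S i ∩ S j = {x} ∧ v i x = v j x := by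
    intro i j hi him hj hjm hij
    have hsum : ∑ x ∈ S i ∩ S j, v i x * v j x = 1 := by
      rw [← hinner i j hi him.le hj hjm hij]
      refine Finset.sum_subset (fun x hx => (hmS.mp (Finset.mem_inter.mp hx).1).1) fun x hx hx' => ?_
      simp only [Finset.mem_inter, hmS, hx, true_and, not_and_or, not_not] at hx'
      rcases hx' with h | h <;> simp [h]
    have hterm : ∀ x ∈ S i ∩ S j, v i x * v j x = 1 ∨ v i x * v j x = -1 := fun x hx => by
      obtain ⟨h1, h2⟩ := Finset.mem_inter.mp hx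
      rcases hSpm i hi him.le x h1 with a | a <;> rcases hSpm j hj hjm x h2 with b | b <;> simp [a, b]
    have hle : (S i ∩ S j).card ≤ 2 := (hc2 i hi him) ▸ Finset.card_le_card Finset.inter_subset_left
    obtain h | h | h : (S i ∩ S j).card = 0 ∨ (S i ∩ S j).card = 1 ∨ (S i ∩ S j).card = 2 := by omega
    · rw [Finset.card_eq_zero.mp h] at hsum; simp at hsum
    · obtain ⟨x, hx⟩ := Finset.card_eq_one.mp h
      refine ⟨x, hx, ?_⟩
      rw [hx, Finset.sum_singleton] at hsum
      exact Int.eq_of_mul_eq_one hsum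
    · obtain ⟨x, y, hxy, hx⟩ := Finset.card_eq_two.mp h
      rw [hx, Finset.sum_pair hxy] at hsum
      have hx1 := hterm x (by rw [hx]; simp)
      have hy1 := hterm y (by rw [hx]; simp)
      omega
  have hdeg : ∀ j, 0 < j → j < m → ∀ x y, x ≠ y → x ∈ S j → y ∈ S j →
      S j = {x, y} ∧ v j x * d x + v j y * d y = -1 := by
    intro j hj hjm x y hxy hx hy
    have hS : S j = {x, y} := (Finset.eq_of_subset_of_card_le (by
      simp [Finset.insert_subset_iff, hx, hy]) (by rw [hc2 j hj hjm, Finset.card_pair hxy])).symm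
    refine ⟨hS, ?_⟩
    rw [← hd j hj hjm.le, ← Finset.sum_subset (Finset.filter_subset (fun x => v j x ≠ 0) T) fun z hz hz' => by
      have : v j z = 0 := by simpa [hz] using hz'
      simp [this], show T.filter (fun x => v j x ≠ 0) = {x, y} from hS, Finset.sum_pair hxy]
  have hcm : (S m).card = 3 := by
    have := (hcard m (by omega) le_rfl).trans hnm
    exact_mod_cast this
  -- the common point
  obtain ⟨a, ha1, ham, haall⟩ : ∃ a, a ∈ S 1 ∧ a ∈ S m ∧
      ∀ j, 0 < j → j < m → a ∈ S j ∧ v j a = v m a := by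
    rcases Nat.lt_or_ge m 3 with h3 | h3
    · obtain ⟨a, ha, hva⟩ := hmeet 1 m one_pos (by omega) (by omega) le_rfl (by omega)
      have haS : a ∈ S 1 ∩ S m := by rw [ha]; simp
      refine ⟨a, (Finset.mem_inter.mp haS).1, (Finset.mem_inter.mp haS).2, fun j hj hjm => ?_⟩
      obtain rfl : j = 1 := by omega
      exact ⟨(Finset.mem_inter.mp haS).1, hva⟩
    · have h4 : 4 ≤ m := by omega
      obtain ⟨a, ha, hva⟩ := hmeet 1 2 one_pos (by omega) two_pos (by omega) (by omega)
      have haS : a ∈ S 1 ∩ S 2 := by rw [ha]; simp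
      obtain ⟨haS1, haS2⟩ := Finset.mem_inter.mp haS
      have hall : ∀ j, 0 < j → j < m → a ∈ S j := by
        intro j hj hjm
        by_contra haj
        have hj1 : j ≠ 1 := fun e => haj (e ▸ haS1)
        have hj2 : j ≠ 2 := fun e => haj (e ▸ haS2)
        obtain ⟨x, hx, hvx⟩ := hmeet 1 j one_pos (by omega) hj hjm.le hj1.symm
        obtain ⟨y, hy, hvy⟩ := hmeet 2 j two_pos (by omega) hj hjm.le hj2.symm
        have hxS : x ∈ S 1 ∩ S j := by rw [hx]; simp
        have hyS : y ∈ S 2 ∩ S j := by rw [hy]; simp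
        obtain ⟨hx1, hxj⟩ := Finset.mem_inter.mp hxS
        obtain ⟨hy2, hyj⟩ := Finset.mem_inter.mp hyS
        have hxa : a ≠ x := fun e => haj (e ▸ hxj)
        have hya : a ≠ y := fun e => haj (e ▸ hyj)
        have hxy : x ≠ y := by
          rintro rfl
          have : x ∈ S 1 ∩ S 2 := Finset.mem_inter.mpr ⟨hx1, hy2⟩
          rw [ha, Finset.mem_singleton] at this
          exact hxa this.symm
        have e1 := (hdeg 1 one_pos (by omega) a x hxa haS1 hx1).2
        have e2 := (hdeg 2 two_pos (by omega) a y hya haS2 hy2).2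
        have e3 := (hdeg j hj hjm x y hxy hxj hyj).2
        rw [hva, hvx] at e1
        rw [hvy] at e2
        omega
      have hval : ∀ j, 0 < j → j < m → v j a = v 1 a := by
        intro j hj hjm
        rcases eq_or_ne j 1 with rfl | hj1
        · rfl
        obtain ⟨x, hx, hvx⟩ := hmeet j 1 hj hjm one_pos (by omega) hj1
        have : a ∈ S j ∩ S 1 := Finset.mem_inter.mpr ⟨hall j hj hjm, haS1⟩
        rw [hx, Finset.mem_singleton] at this
        rwa [this]
      have ham : a ∈ S m := by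
        by_contra hnot
        have hb : ∀ j, 0 < j → j < m → ∃ x, x ≠ a ∧ S j ∩ S m = {x} ∧ v j x = v m x ∧
            S j = {a, x} ∧ v j a * d a + v j x * d x = -1 := by
          intro j hj hjm
          obtain ⟨x, hx, hvx⟩ := hmeet j m hj hjm (by omega) le_rfl hjm.ne
          have hxS : x ∈ S j ∩ S m := by rw [hx]; simp
          obtain ⟨hxj, hxm⟩ := Finset.mem_inter.mp hxS
          have hxa : x ≠ a := fun e => hnot (e ▸ hxm)
          obtain ⟨h1, h2⟩ := hdeg j hj hjm a x hxa.symm (hall j hj hjm) hxj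
          exact ⟨x, hxa, hx, hvx, h1, h2⟩
        haveI : Nonempty ι := ⟨a⟩
        choose! b hba hbS hbv hbpair hbd using hb
        have hinj : Set.InjOn b ((Finset.Ico 1 m : Finset ℕ) : Set ℕ) := by
          intro i hi j hj e
          simp only [Finset.coe_Ico, Set.mem_Ico] at hi hj
          by_contra hne
          obtain ⟨x, hx, -⟩ := hmeet i j (by omega) hi.2 (by omega) hj.2.le hne
          have h1 : a ∈ S i ∩ S j := Finset.mem_inter.mpr ⟨hall i (by omega) hi.2, hall j (by omega) hj.2⟩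
          have h2 : b i ∈ S i ∩ S j := Finset.mem_inter.mpr
            ⟨by rw [hbpair i (by omega) hi.2]; simp, by rw [hbpair j (by omega) hj.2, e]; simp⟩
          rw [hx, Finset.mem_singleton] at h1 h2
          exact hba i (by omega) hi.2 (h2.trans h1.symm)
        have hbm : ∀ j, 0 < j → j < m → b j ∈ S m := fun j hj hjm => by
          have : b j ∈ S j ∩ S m := by rw [hbS j hj hjm]; simp
          exact (Finset.mem_inter.mp this).2
        have hle : (Finset.Ico 1 m).card ≤ (S m).card :=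
          Finset.card_le_card_of_injOn b (fun j hj => by
            simp only [Finset.coe_Ico, Set.mem_Ico] at hj
            exact hbm j (by omega) hj.2) hinj
        rw [Nat.card_Ico, hcm] at hle
        obtain rfl : m = 4 := by omega
        have himg : (Finset.Ico 1 4).image b = S 4 := Finset.eq_of_subset_of_card_le
          (fun x hx => by
            obtain ⟨j, hj, rfl⟩ := Finset.mem_image.mp hx
            simp only [Finset.mem_Ico] at hj
            exact hbm j (by omega) hj.2)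
          (by rw [Finset.card_image_of_injOn hinj, Nat.card_Ico, hcm])
        have h4' := hd 4 (by omega) le_rfl
        rw [← Finset.sum_subset (Finset.filter_subset (fun x => v 4 x ≠ 0) T) fun z hz hz' => by
          have : v 4 z = 0 := by simpa [hz] using hz'
          simp [this], show T.filter (fun x => v 4 x ≠ 0) = _ from himg.symm,
          Finset.sum_image hinj, show Finset.Ico 1 4 = ({1, 2, 3} : Finset ℕ) by decide,
          Finset.sum_insert (by simp), Finset.sum_pair (by norm_num)] at h4'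
        have e1 := hbd 1 one_pos (by norm_num)
        have e2 := hbd 2 two_pos (by norm_num)
        have e3 := hbd 3 (by norm_num) (by norm_num)
        rw [hbv 1 one_pos (by norm_num)] at e1
        rw [hbv 2 two_pos (by norm_num), hva.symm] at e2
        rw [hbv 3 (by norm_num) (by norm_num), hval 3 (by norm_num) (by norm_num)] at e3
        omega
      refine ⟨a, haS1, ham, fun j hj hjm => ⟨hall j hj hjm, ?_⟩⟩
      obtain ⟨x, hx, hvx⟩ := hmeet j m hj hjm (by omega) le_rfl hjm.ne
      have : a ∈ S j ∩ S m := Finset.mem_inter.mpr ⟨hall j hj hjm, ham⟩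
      rw [hx, Finset.mem_singleton] at this
      rwa [this]
  have hb : ∀ j, 0 < j → j < m → ∃ x, x ≠ a ∧ x ∈ S j ∧ x ∉ S m ∧ S j = {a, x} := by
    intro j hj hjm
    obtain ⟨x, hx, hxa⟩ := Finset.exists_mem_ne (s := S j) (by rw [hc2 j hj hjm]; omega) a
    refine ⟨x, hxa, hx, fun hxm => ?_, (hdeg j hj hjm a x hxa.symm (haall j hj hjm).1 hx).1⟩
    obtain ⟨y, hy, -⟩ := hmeet j m hj hjm (by omega) le_rfl hjm.ne
    have h1 : a ∈ S j ∩ S m := Finset.mem_inter.mpr ⟨(haall j hj hjm).1, ham⟩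
    have h2 : x ∈ S j ∩ S m := Finset.mem_inter.mpr ⟨hx, hxm⟩
    rw [hy, Finset.mem_singleton] at h1 h2
    exact hxa (h2.trans h1.symm)
  haveI : Nonempty ι := ⟨a⟩
  choose! b hba hbS hbm hbpair using hb
  obtain ⟨c, e, hce, hse⟩ := Finset.card_eq_two.mp (show ((S m).erase a).card = 2 by
    rw [Finset.card_erase_of_mem ham, hcm])
  have hc : c ∈ (S m).erase a := by rw [hse]; simp
  have he : e ∈ (S m).erase a := by rw [hse]; simp
  obtain ⟨hca, hcS⟩ := Finset.mem_erase.mp hc
  obtain ⟨hea, heS⟩ := Finset.mem_erase.mp he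
  refine ⟨a, b, c, e, (hmS.mp ham).1, (hmS.mp hcS).1, (hmS.mp heS).1, hca, hea, hce,
    hSpm m (by omega) le_rfl a ham, hSpm m (by omega) le_rfl c hcS, hSpm m (by omega) le_rfl e heS,
    fun x hx hxa hxc hxe => ?_, fun j hj hjm => ⟨(hmS.mp (hbS j hj hjm)).1, hba j hj hjm,
      fun h => hbm j hj hjm (h ▸ hcS), fun h => hbm j hj hjm (h ▸ heS),
      hSpm j hj hjm.le _ (hbS j hj hjm), (haall j hj hjm).2, fun x hx hxa hxb => ?_⟩,
    fun i j hi him hj hjm hij => ?_⟩
  · by_contra h
    have : x ∈ (S m).erase a := Finset.mem_erase.mpr ⟨hxa, hmS.mpr ⟨hx, h⟩⟩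
    rw [hse] at this
    simp [hxc, hxe] at this
  · by_contra h
    have : x ∈ S j := hmS.mpr ⟨hx, h⟩
    rw [hbpair j hj hjm] at this
    simp [hxa, hxb] at this
  · by_contra hne
    obtain ⟨x, hx, -⟩ := hmeet i j hi him hj hjm.le hne
    have h1 : a ∈ S i ∩ S j := Finset.mem_inter.mpr ⟨(haall i hi him).1, (haall j hj hjm).1⟩
    have h2 : b i ∈ S i ∩ S j := Finset.mem_inter.mpr ⟨hbS i hi him, hij ▸ hbS j hj hjm⟩
    rw [hx, Finset.mem_singleton] at h1 h2
    exact hba i hi him (h2.trans h1.symm)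

end CfsgLib.DihBlock
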