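import Cfsg.Agent.Lib.DihBlock.Columns
import Cfsg.Agent.Lib.DihBlock.Sunflower

/-!
# The principal 2-block at a dihedral Sylow 2-subgroup: its characters on the rotations
-/

set_option autoImplicit false
set_option linter.unusedSectionVars false
set_option linter.style.haveILetI false

namespace CfsgLib.DihBlock

open Cfsg CfsgLib
open scoped ComplexConjugate CfsgLib.Char

variable {G : Type*} [Group G] [Fintype G]

/-- The named members of the principal block and their values on the rotations. -/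
structure Rotations (M : Ideal AlgInt) (σ : G) (m : ℕ) (ζ : ℂ) where
  a : IrrCharacter G
  b : ℕ → IrrCharacter G
  c : IrrCharacter G
  e : IrrCharacter G
  δ : ℤ
  δc : ℤ
  δe : ℤ
  signδ : δ = 1 ∨ δ = -1
  signc : δc = 1 ∨ δc = -1
  signe : δe = 1 ∨ δe = -1
  mem_a : a ∈ principalBlock M G
  mem_b : ∀ j, 0 < j → j < m → b j ∈ principalBlock M G
  mem_c : c ∈ principalBlock M G
  mem_e : e ∈ principalBlock M G
  ne_a : a ≠ Blocks.trivIrr G
  ne_c : c ≠ Blocks.trivIrr G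
  ne_e : e ≠ Blocks.trivIrr G
  ne_b : ∀ j, 0 < j → j < m → b j ≠ Blocks.trivIrr G ∧ b j ≠ a ∧ b j ≠ c ∧ b j ≠ e
  ne_ca : c ≠ a
  ne_ea : e ≠ a
  ne_ce : c ≠ e
  inj : ∀ i j, 0 < i → i < m → 0 < j → j < m → b i = b j → i = j
  val_a : ∀ l, 0 < l → l < 2 * m → (a : G → ℂ) (σ ^ l) = δ
  val_b : ∀ j, 0 < j → j < m → ∀ l, 0 < l → l < 2 * m →
    (b j : G → ℂ) (σ ^ l) = δ * (ζ ^ (j * l) + (ζ ^ (j * l))⁻¹)
  val_c : ∀ l, 0 < l → l < 2 * m → (c : G → ℂ) (σ ^ l) = δc * (-1) ^ (l + 1)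
  val_e : ∀ l, 0 < l → l < 2 * m → (e : G → ℂ) (σ ^ l) = δe * (-1) ^ (l + 1)
  val_other : ∀ χ ∈ principalBlock M G, χ ≠ Blocks.trivIrr G → χ ≠ a → χ ≠ c → χ ≠ e →
    (∀ j, 0 < j → j < m → χ ≠ b j) → ∀ l, 0 < l → l < 2 * m → (χ : G → ℂ) (σ ^ l) = 0
  rel_b : ∀ j, 0 < j → j < m → ∀ ρ : G, ¬ 2 ∣ orderOf ρ →
    1 + (δ : ℂ) * (a : G → ℂ) ρ = δ * (b j : G → ℂ) ρ
  rel_ce : ∀ ρ : G, ¬ 2 ∣ orderOf ρ →
    1 + (δ : ℂ) * (a : G → ℂ) ρ = -(δc : ℂ) * (c : G → ℂ) ρ - δe * (e : G → ℂ) ρ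

variable {P : Sylow 2 G} {σ τ : G} {m : ℕ} {M : Ideal AlgInt}

theorem exists_rotations (D : Data P σ τ m) (hM : IsPModular 2 M) {ζ : ℂ} (hζ : IsPrimitiveRoot ζ (2 * m)) :
    Nonempty (Rotations M σ m ζ) := by
  classical
  haveI := Blocks.isPrime_of_isPModular hM
  have hm := two_le D
  set t := Blocks.trivIrr G with htdef
  set B : Finset (IrrCharacter G) := Finset.univ.filter (· ∈ principalBlock M G) with hB
  set u := fun j χ => uval D hζ χ j with hu
  have hmemB : ∀ χ, χ ∈ B ↔ χ ∈ principalBlock M G := fun χ => by simp [hB]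
  have htB : t ∈ B := (hmemB t).mpr (Blocks.mem_blockOf_self t)
  have hut : ∀ j, 0 < j → j ≤ m → u j t = 1 := fun j hj hjm => uval_triv D hζ hj (by omega)
  have hin : ∀ i j, 0 < i → i ≤ m → 0 < j → j ≤ m → ∑ χ ∈ B.erase t, u i χ * u j χ =
      1 + (if i + j = 2 * m then 1 else 0) + (if i = j then 1 else 0) := by
    intro i j hi him hj hjm
    have h := uval_inner D hζ hM hi him hj hjm
    rw [← Finset.add_sum_erase B _ htB, show uval D hζ t i = 1 from hut i hi him, show uval D hζ t j = 1 from hut j hj hjm] at h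
    linarith
  have hd1 : ∀ χ : IrrCharacter G, (χ : G → ℂ) 1 = ((charDegree (χ : G → ℂ) : ℤ) : ℂ) := fun χ => by
    rw [(Blocks.irr_degree_eq χ).1, Int.cast_natCast]
  have hreg : ∀ j, 0 < j → j ≤ m → ∀ ρ : G, ¬ 2 ∣ orderOf ρ →
      ∑ χ ∈ B.erase t, (u j χ : ℂ) * (χ : G → ℂ) ρ = -1 := by
    intro j hj hjm ρ hρ
    have h := uval_regular D hζ hM j hρ
    rw [← Finset.add_sum_erase B _ htB, show uval D hζ t j = 1 from hut j hj hjm] at h
    have e : (t : G → ℂ) ρ = 1 := rfl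
    rw [Int.cast_one, one_mul, e] at h
    linear_combination h
  obtain ⟨a, b, c, e, haT, hcT, heT, hca, hea, hce, hva, hvc, hve, hzm, hb, hinj⟩ :=
    sunflower (B.erase t) m hm (even D) u (fun χ => (charDegree (χ : G → ℂ) : ℤ))
      (fun j hj hjm => by rw [hin j j hj hjm.le hj hjm.le, if_neg (by omega), if_pos rfl]; norm_num)
      (by rw [hin m m (by omega) le_rfl (by omega) le_rfl, if_pos (two_mul m).symm, if_pos rfl]; norm_num)
      (fun i j hi him hj hjm hij => by rw [hin i j hi him hj hjm, if_neg (by omega), if_neg hij]; norm_num)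
      (fun j hj hjm => by
        apply Int.cast_injective (α := ℂ)
        push_cast
        rw [← hreg j hj hjm 1 (by simp)]
        exact Finset.sum_congr rfl fun χ _ => by rw [hd1 χ, Int.cast_natCast])
  obtain ⟨hat, haB⟩ := Finset.mem_erase.mp haT
  obtain ⟨hct, hcB⟩ := Finset.mem_erase.mp hcT
  obtain ⟨het, heB⟩ := Finset.mem_erase.mp heT
  set δ := u m a with hδ
  have hua : ∀ j, 0 < j → j ≤ m → u j a = δ := fun j hj hjm => by
    rcases eq_or_lt_of_le hjm with h | h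
    · rw [h]
    · exact (hb j hj h).2.2.2.2.2.1
  have hzero : ∀ χ ∈ B.erase t, χ ≠ a → ∀ j, 0 < j → j < m → χ ≠ b j → u j χ = 0 :=
    fun χ hχ hχa j hj hjm hχb => (hb j hj hjm).2.2.2.2.2.2 χ hχ hχa hχb
  have hfold : ∀ (χ : IrrCharacter G) (j : ℕ), 0 < j → j < 2 * m →
      ∃ j', 0 < j' ∧ j' ≤ m ∧ (j' = j ∨ j' + j = 2 * m) ∧ u j χ = u j' χ := by
    intro χ j hj hjN
    by_cases h : j ≤ m
    · exact ⟨j, hj, h, Or.inl rfl, rfl⟩
    · exact ⟨2 * m - j, by omega, by omega, Or.inr (by omega), (uval_symm D hζ χ hjN.le).symm⟩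
  -- values and coefficient sums
  have hval : ∀ (χ : IrrCharacter G) (l : ℕ), 0 < l → l < 2 * m →
      (χ : G → ℂ) (σ ^ l) = -∑ j ∈ Finset.range (2 * m), (u j χ : ℂ) * (ζ ^ j) ^ l :=
    fun χ l => value_rot D hζ χ
  have hu0 : ∀ χ, u 0 χ = 0 := fun χ => uval_zero D hζ χ
  have hua' : ∀ j ∈ Finset.range (2 * m), u j a = if j = 0 then 0 else δ := fun j hj => by
    rw [Finset.mem_range] at hj
    split_ifs with h
    · rw [h, hu0]
    · obtain ⟨j', h1, h2, -, h3⟩ := hfold a j (Nat.pos_of_ne_zero h) hj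
      rw [h3, hua j' h1 h2]
  have hsumA : ∀ x : ℂ, x ^ (2 * m) = 1 → x ≠ 1 →
      ∑ j ∈ Finset.range (2 * m), (u j a : ℂ) * x ^ j = -δ := by
    intro x hx hx1
    rw [Finset.sum_congr rfl (g := fun j => (δ : ℂ) * x ^ j - if j = 0 then (δ : ℂ) * x ^ j else 0) fun j hj => by
      rw [hua' j hj]; split_ifs <;> simp]
    rw [Finset.sum_sub_distrib, ← Finset.mul_sum, geom_sum_root hx, if_neg hx1, mul_zero, Finset.sum_ite_eq',
      if_pos (Finset.mem_range.mpr (by omega)), pow_zero, mul_one, zero_sub]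
  have hub : ∀ i, 0 < i → i < m → ∀ j ∈ Finset.range (2 * m), j ≠ i → j ≠ 2 * m - i → u j (b i) = 0 := by
    intro i hi him j hj h1 h2
    rw [Finset.mem_range] at hj
    obtain ⟨hbT, hba, hbc, hbe, -, -, -⟩ := hb i hi him
    rcases Nat.eq_zero_or_pos j with h0 | h0
    · rw [h0, hu0]
    obtain ⟨j', h3, h4, h5, h6⟩ := hfold (b i) j h0 hj
    rw [h6]
    rcases eq_or_lt_of_le h4 with h7 | h7
    · rw [h7]; exact hzm _ hbT hba hbc hbe
    · refine hzero _ hbT hba j' h3 h7 fun e' => ?_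
      have := hinj i j' hi him h3 h7 e'
      omega
  have huc : ∀ χ ∈ B.erase t, χ ≠ a → (∀ i, 0 < i → i < m → χ ≠ b i) →
      ∀ j ∈ Finset.range (2 * m), j ≠ m → u j χ = 0 := by
    intro χ hχ hχa hχb j hj hjm
    rw [Finset.mem_range] at hj
    rcases Nat.eq_zero_or_pos j with h0 | h0
    · rw [h0, hu0]
    obtain ⟨j', h3, h4, h5, h6⟩ := hfold χ j h0 hj
    rw [h6]
    exact hzero χ hχ hχa j' h3 (by omega) (hχb j' h3 (by omega))
  have hminus : ζ ^ m = -1 := by
    have h2 : ζ ^ m * ζ ^ m = 1 := by rw [← pow_add, ← two_mul, hζ.pow_eq_one]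
    exact (mul_self_eq_one_iff.mp h2).resolve_left (zeta_pow_ne_one D hζ (by omega) (by omega))
  have hcval : ∀ χ ∈ B.erase t, χ ≠ a → (∀ i, 0 < i → i < m → χ ≠ b i) → ∀ l, 0 < l → l < 2 * m →
      (χ : G → ℂ) (σ ^ l) = (u m χ : ℂ) * (-1) ^ (l + 1) := by
    intro χ hχ hχa hχb l hl hlN
    rw [hval χ l hl hlN, Finset.sum_eq_single m
      (fun j hj hjm => by rw [huc χ hχ hχa hχb j hj hjm, Int.cast_zero, zero_mul])
      (fun h => absurd (Finset.mem_range.mpr (by omega)) h), hminus, pow_succ]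
    ring
  -- the sign at the `b j`
  have hrelj : ∀ i, 0 < i → i < m → ∀ ρ : G, ¬ 2 ∣ orderOf ρ →
      (δ : ℂ) * (a : G → ℂ) ρ + (u i (b i) : ℂ) * (b i : G → ℂ) ρ = -1 := by
    intro i hi him ρ hρ
    rw [← hreg i hi him.le ρ hρ, ← Finset.sum_subset
      (s₁ := ({a, b i} : Finset (IrrCharacter G))) (by simp [Finset.insert_subset_iff, haT, (hb i hi him).1])
      (fun χ hχ hχ' => by
        simp only [Finset.mem_insert, Finset.mem_singleton, not_or] at hχ'
        rw [hzero χ hχ hχ'.1 i hi him hχ'.2, Int.cast_zero, zero_mul]),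
      Finset.sum_pair (hb i hi him).2.1.symm, hua i hi him.le]
  have hsign : ∀ i, 0 < i → i < m → u i (b i) = -δ := by
    intro i hi him
    have h1 := hrelj i hi him 1 (by simp)
    rw [hd1 a, hd1 (b i)] at h1
    have h2 : δ * (charDegree (a : G → ℂ) : ℤ) + u i (b i) * (charDegree (b i : G → ℂ) : ℤ) = -1 := by
      exact_mod_cast h1
    have hapos := (Blocks.irr_degree_eq a).2
    have hbpos := (Blocks.irr_degree_eq (b i)).2
    obtain ⟨k, hk⟩ := sum_uval D hζ a
    have h3 : ∑ j ∈ Finset.range (2 * m), u j a = (2 * (m : ℤ) - 1) * δ := by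
      rw [Finset.sum_congr rfl (g := fun j => δ - if j = 0 then δ else 0) fun j hj => by
        rw [hua' j hj]; split_ifs <;> simp]
      simp only [Finset.sum_sub_distrib, Finset.sum_const, Finset.card_range, nsmul_eq_mul, Finset.sum_ite_eq',
        Finset.mem_range, show 0 < 2 * m by omega, if_true]
      push_cast; ring
    rw [h3] at hk
    obtain ⟨hsb, -⟩ := (hb i hi him).2.2.2.2
    rcases hva with hδ1 | hδ1 <;> rcases hsb with hε | hε <;> rw [hδ1, hε] at h2 <;> rw [hδ1] at hk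
    · exfalso; omega
    · rw [hδ1, hε]
    · rw [hδ1, hε]; norm_num
    · exfalso
      have : (charDegree (a : G → ℂ) : ℤ) = 2 * m * ((k : ℤ) + 1) - 1 := by linarith
      have : (2 : ℤ) * m ≤ 2 * m * ((k : ℤ) + 1) := le_mul_of_one_le_right (by positivity) (by omega)
      omega
  refine ⟨⟨a, b, c, e, δ, u m c, u m e, hva, hvc, hve, (hmemB a).mp haB,
    fun j hj hjm => (hmemB _).mp (Finset.mem_of_mem_erase (hb j hj hjm).1),
    (hmemB c).mp hcB, (hmemB e).mp heB, hat, hct, het,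
    fun j hj hjm => ⟨Finset.ne_of_mem_erase (hb j hj hjm).1, (hb j hj hjm).2.1, (hb j hj hjm).2.2.1,
      (hb j hj hjm).2.2.2.1⟩, hca, hea, hce, hinj, ?_, ?_, ?_, ?_, ?_, ?_, ?_⟩⟩
  · intro l hl hlN
    rw [hval a l hl hlN, Finset.sum_congr rfl fun j _ => show _ = (u j a : ℂ) * (ζ ^ l) ^ j by rw [pow_right_comm],
      hsumA _ (zeta_pow D hζ l) (zeta_pow_ne_one D hζ hl hlN), neg_neg]
  · intro i hi him l hl hlN
    rw [hval (b i) l hl hlN, ← Finset.sum_subset (s₁ := ({i, 2 * m - i} : Finset ℕ))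
      (by simp [Finset.insert_subset_iff]; omega) (fun j hj hj' => by
        simp only [Finset.mem_insert, Finset.mem_singleton, not_or] at hj'
        rw [hub i hi him j hj hj'.1 hj'.2, Int.cast_zero, zero_mul]),
      Finset.sum_pair (by omega), show u (2 * m - i) (b i) = u i (b i) from uval_symm D hζ _ (by omega),
      hsign i hi him]
    have hinv : (ζ ^ (2 * m - i)) ^ l = (ζ ^ (i * l))⁻¹ := by
      rw [← mul_eq_one_iff_eq_inv₀ (pow_ne_zero _ (hζ.ne_zero (by omega))), pow_mul ζ i l, ← mul_pow, ← pow_add,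
        Nat.sub_add_cancel (by omega), hζ.pow_eq_one, one_pow]
    rw [hinv, ← pow_mul]
    push_cast; ring
  · exact hcval c hcT hca fun i hi him h => (hb i hi him).2.2.1 h.symm
  · exact hcval e heT hea fun i hi him h => (hb i hi him).2.2.2.1 h.symm
  · intro χ hχ hχt hχa hχc hχe hχb l hl hlN
    have hχT : χ ∈ B.erase t := Finset.mem_erase.mpr ⟨hχt, (hmemB χ).mpr hχ⟩
    rw [hcval χ hχT hχa hχb l hl hlN, hzm χ hχT hχa hχc hχe, Int.cast_zero, zero_mul]
  · intro i hi him ρ hρ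
    have h := hrelj i hi him ρ hρ
    rw [hsign i hi him] at h
    push_cast at h
    linear_combination h
  · intro ρ hρ
    have h := hreg m (by omega) le_rfl ρ hρ
    rw [← Finset.sum_subset (s₁ := ({a, c, e} : Finset (IrrCharacter G)))
      (by simp [Finset.insert_subset_iff, haT, hcT, heT]) (fun χ hχ hχ' => by
        simp only [Finset.mem_insert, Finset.mem_singleton, not_or] at hχ'
        rw [hzm χ hχ hχ'.1 hχ'.2.1 hχ'.2.2, Int.cast_zero, zero_mul]),
      Finset.sum_insert (by simp [hca.symm, hea.symm]), Finset.sum_pair hce] at h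
    linear_combination h

end CfsgLib.DihBlock
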