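import Cfsg.Agent.Lib.DihBlock.Count
import Cfsg.Agent.Lib.DihBlock.Structure

/-!
# The order formula at a dihedral Sylow 2-subgroup with one class of involutions
-/

set_option autoImplicit false
set_option linter.unusedSectionVars false
set_option linter.style.haveILetI false

namespace CfsgLib.DihBlock

open Cfsg CfsgLib
open scoped ComplexConjugate CfsgLib.Char

variable {G : Type*} [Group G] [Fintype G]
variable {P : Sylow 2 G} {σ τ : G} {m : ℕ} {M : Ideal AlgInt} {ζ : ℂ}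

/-- Outside the principal block the values on a section cancel. -/
theorem sum_regular_section (hM : IsPModular 2 M) {x : G} (hx : ∃ k, orderOf x = 2 ^ k)
    [DecidablePred fun c : Subgroup.centralizer ({x} : Set G) => ¬ 2 ∣ orderOf c]
    [Fintype (Subgroup.centralizer ({x} : Set G))]
    {χ : IrrCharacter G} (hχ : χ ∉ principalBlock M G) :
    ∑ c : Subgroup.centralizer ({x} : Set G) with ¬ 2 ∣ orderOf c, (χ : G → ℂ) (x * (c : G)) = 0 := by
  classical
  haveI := Blocks.isPrime_of_isPModular hM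
  have h := Blocks.sum_regPart_mul_conj_eq_zero hM hx hχ
    (ψ := Blocks.trivIrr (Subgroup.centralizer ({x} : Set G)))
    (Blocks.mem_blockOf_self (Blocks.trivIrr (Subgroup.centralizer ({x} : Set G))))
  refine Eq.trans ?_ h
  rw [Finset.sum_filter]
  refine Finset.sum_congr rfl fun c _ => ?_
  have e : ((Blocks.trivIrr (Subgroup.centralizer ({x} : Set G)) : IrrCharacter _) :
      Subgroup.centralizer ({x} : Set G) → ℂ) c = 1 := rfl
  rw [e, map_one, mul_one, Blocks.regPart]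
  by_cases hc : ¬ 2 ∣ orderOf c
  · rw [if_pos hc, if_pos (show IsPRegular 2 c from hc)]
  · rw [if_neg hc, if_neg (show ¬ IsPRegular 2 c from hc)]

theorem sum_parity (A B k : ℕ) :
    ∑ i ∈ Finset.range (2 * k), (if Even i then A else B) = k * (A + B) := by
  induction k with
  | zero => simp
  | succ k ih =>
    rw [show 2 * (k + 1) = 2 * k + 1 + 1 by ring, Finset.sum_range_succ, Finset.sum_range_succ, ih,
      if_pos (even_two_mul k), if_neg (by simp [Nat.even_add_one])]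
    ring

variable (D : Data P σ τ m)
include D

/-- The sum of a character over a coset of the core. -/
theorem coset_sum (hM : IsPModular 2 M) {l : ℕ} (h0 : 0 < l) (hl : l < 2 * m) [DecidableEq G]
    [DecidablePred (· ∈ principalBlock M G)] [DecidablePred fun g : G => g * (σ ^ l)⁻¹ ∈ core σ m]
    (χ : IrrCharacter G) :
    ∑ g : G with g * (σ ^ l)⁻¹ ∈ core σ m, (χ : G → ℂ) g =
      if χ ∈ principalBlock M G then (Nat.card (core σ m) : ℂ) * (χ : G → ℂ) (σ ^ l) else 0 := by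
  classical
  haveI := Fact.mk Nat.prime_two
  haveI := Blocks.isPrime_of_isPModular hM
  haveI : (pPrimeCore 2 (cz σ m)).Normal := Transfer.pPrimeCore_normal 2 _
  set y := σ ^ l with hy
  have hyP : y ∈ (P : Subgroup G) := pow_mem D.memσ l
  have hyC : y ∈ cz σ m := sylow_le_centralizer_z D hyP
  have hyo := exists_orderOf D hyP
  have hnpc : HasNormalPComplement 2 (Subgroup.centralizer ({y} : Set G)) := by
    by_cases h2 : l = m
    · rw [hy, h2]; obtain ⟨Q, -, -, h⟩ := z_centralizer D; exact h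
    · obtain ⟨Q, -, h⟩ := rot_centralizer D (pow_mem (Subgroup.mem_zpowers σ) l)
        fun e => h2 ((pow_sq_eq_one_iff D h0 hl).mp e)
      exact h
  have hcen : ∀ c ∈ Subgroup.centralizer ({y} : Set G), c ∈ cz σ m := fun c hc =>
    Subgroup.mem_centralizer_singleton_iff.mpr
      (centralizer_le_z D (pow_mem (Subgroup.mem_zpowers σ) l) (pow_ne_one D h0 hl) hc).eq
  set Y : Finset G := Finset.univ.filter fun g : G => g * y⁻¹ ∈ core σ m
  have hmY : ∀ {g}, g ∈ Y ↔ g * y⁻¹ ∈ core σ m := by intro g; simp [Y]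
  -- every element of the coset is conjugate into the section of `y`
  have hrep : ∀ g ∈ Y, ∃ o ∈ core σ m, ∃ r : Subgroup.centralizer ({y} : Set G),
      ¬ 2 ∣ orderOf r ∧ g = o * (y * (r : G)) * o⁻¹ := by
    intro g hg
    have hgC : g ∈ cz σ m := by simpa using mul_mem (core_le (hmY.mp hg)) hyC
    obtain ⟨x, ⟨v, hxv, hcom, hxo, hv⟩, hxg⟩ := Blocks.exists_isPPart Nat.prime_two g
    have hxC : x ∈ cz σ m := Subgroup.zpowers_le.mpr hgC hxg
    have hvC : v ∈ cz σ m := by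
      have : x⁻¹ * g ∈ cz σ m := mul_mem (inv_mem hxC) hgC
      rwa [← hxv, inv_mul_cancel_left] at this
    have hvW := mem_core D hvC hv
    have hxy : y * x⁻¹ ∈ core σ m := by
      have h1 := hmY.mp hg
      rw [← hxv] at h1
      have h2 := core_conj hxC (inv_mem hvW)
      have e : y * x⁻¹ = (x * v * y⁻¹)⁻¹ * (x * v⁻¹ * x⁻¹)⁻¹ := by group
      rw [e]; exact mul_mem (inv_mem h1) (inv_mem h2)
    obtain ⟨⟨o, ho⟩, hoW, hox⟩ := ZStar.exists_conj_eq_of_mul_mem (G := cz σ m) (K := pPrimeCore 2 (cz σ m))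
      (Transfer.pPrimeCore_coprime 2) (x := ⟨x, hxC⟩) (y := ⟨y, hyC⟩)
      (Transfer.isPGroup_zpowers (by obtain ⟨k, hk⟩ := hxo; exact ⟨k, by rw [← Subgroup.orderOf_coe]; exact hk⟩))
      (Transfer.isPGroup_zpowers (by obtain ⟨k, hk⟩ := hyo; exact ⟨k, by rw [← Subgroup.orderOf_coe]; exact hk⟩))
      (by
        obtain ⟨w, hw, hwe⟩ := hxy
        have : (⟨y, hyC⟩ : cz σ m) * (⟨x, hxC⟩ : cz σ m)⁻¹ = w := Subtype.ext hwe.symm
        rw [this]; exact hw)
    have hox' : o * y * o⁻¹ = x := congrArg Subtype.val hox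
    refine ⟨o, ⟨⟨o, ho⟩, hoW, rfl⟩, ⟨o⁻¹ * v * o, Subgroup.mem_centralizer_singleton_iff.mpr ?_⟩, ?_, ?_⟩
    · rw [← hox'] at hcom
      have := hcom.eq
      calc o⁻¹ * v * o * y = o⁻¹ * (v * (o * y * o⁻¹)) * o := by group
        _ = o⁻¹ * (o * y * o⁻¹ * v) * o := by rw [this]
        _ = y * (o⁻¹ * v * o) := by group
    · rw [← Subgroup.orderOf_coe]
      show ¬ 2 ∣ orderOf (o⁻¹ * v * o)
      have e := Transfer.orderOf_conj o⁻¹ v
      rw [inv_inv] at e
      rwa [e]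
    · show g = o * (y * (o⁻¹ * v * o)) * o⁻¹
      rw [← hxv, ← hox']; group
  have hYcard : Y.card = Nat.card (core σ m) := by
    rw [Nat.card_eq_fintype_card, ← Finset.card_univ]
    exact Finset.card_bij (fun g hg => (⟨g * y⁻¹, hmY.mp hg⟩ : core σ m)) (fun _ _ => Finset.mem_univ _)
      (fun a _ b _ e => mul_right_cancel (congrArg Subtype.val e))
      (fun w _ => ⟨(w : G) * y, hmY.mpr (by simp), Subtype.ext (mul_inv_cancel_right _ _)⟩)
  refine Eq.trans (Finset.sum_congr (s₂ := Y) (by ext g; simp [hmY, hy]) fun _ _ => rfl) ?_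
  by_cases hχ : χ ∈ principalBlock M G
  · have hin : ∀ g ∈ Y, (χ : G → ℂ) g = (χ : G → ℂ) y := by
      intro g hg
      obtain ⟨o, -, r, hr, rfl⟩ := hrep g hg
      rw [Blocks.irr_classFunction χ (y * (r : G)) o]
      exact value_mul_regular hM hyo hnpc hχ
        (show Commute y (r : G) from (Subgroup.mem_centralizer_singleton_iff.mp r.2).symm)
        (by rw [Subgroup.orderOf_coe]; exact hr)
    rw [if_pos hχ, Finset.sum_congr rfl hin, Finset.sum_const, nsmul_eq_mul, hYcard]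
  rw [if_neg hχ]
  -- sum over the conjugates of the section
  let S : Type _ := {r : Subgroup.centralizer ({y} : Set G) // ¬ 2 ∣ orderOf r}
  let F := core σ m ⊓ Subgroup.centralizer ({y} : Set G)
  let f : core σ m × S → G := fun v => (v.1 : G) * (y * ((v.2.1 : G))) * (v.1 : G)⁻¹
  have hf : ∀ v ∈ (Finset.univ : Finset (core σ m × S)), f v ∈ Y := by
    intro v _
    refine hmY.mpr ?_
    have hrW : ((v.2.1 : G)) ∈ core σ m := mem_core D (hcen _ v.2.1.2) (by rw [Subgroup.orderOf_coe]; exact v.2.2)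
    have e : f v * y⁻¹ = (v.1 : G) * (y * (((v.2.1 : G)) * (v.1 : G)⁻¹) * y⁻¹) := by
      show (v.1 : G) * (y * ((v.2.1 : G))) * (v.1 : G)⁻¹ * y⁻¹ = _
      group
    rw [e]
    exact mul_mem v.1.2 (core_conj hyC (mul_mem hrW (inv_mem v.1.2)))
  have hfib : ∀ g ∈ Y, (Finset.univ.filter fun v => f v = g).card = Nat.card F := by
    intro g hg
    obtain ⟨o, ho, r, hr, rfl⟩ := hrep g hg
    rw [← Fintype.card_subtype, ← Nat.card_eq_fintype_card]
    have hmap : ∀ c : F, (c : G)⁻¹ * (r : G) * (c : G) ∈ Subgroup.centralizer ({y} : Set G) := fun c =>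
      mul_mem (mul_mem (inv_mem c.2.2) r.2) c.2.2
    refine (Nat.card_eq_of_bijective
      (fun c : F => (⟨(⟨o * (c : G), mul_mem ho c.2.1⟩, ⟨⟨_, hmap c⟩, ?_⟩), ?_⟩ :
        {v : core σ m × S // f v = o * (y * (r : G)) * o⁻¹})) ⟨fun c c' e => ?_, ?_⟩).symm
    · rw [← Subgroup.orderOf_coe]
      show ¬ 2 ∣ orderOf ((c : G)⁻¹ * (r : G) * (c : G))
      have e := Transfer.orderOf_conj (c : G)⁻¹ (r : G)
      rw [inv_inv, Subgroup.orderOf_coe] at e
      rwa [e]
    · show o * (c : G) * (y * ((c : G)⁻¹ * (r : G) * (c : G))) * (o * (c : G))⁻¹ = _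
      have hc := Subgroup.mem_centralizer_singleton_iff.mp c.2.2
      calc o * (c : G) * (y * ((c : G)⁻¹ * (r : G) * (c : G))) * (o * (c : G))⁻¹
          = o * ((c : G) * y * (c : G)⁻¹) * (r : G) * o⁻¹ := by group
        _ = o * (y * (r : G)) * o⁻¹ := by rw [hc]; group
    · have e' : o * (c : G) = o * (c' : G) := congrArg (fun v => ((v.1.1 : core σ m) : G)) e
      exact Subtype.ext (mul_left_cancel e')
    · rintro ⟨⟨⟨w, hw⟩, ⟨⟨r', hr'⟩, hreg⟩⟩, he⟩
      have he' : w * (y * r') * w⁻¹ = o * (y * (r : G)) * o⁻¹ := he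
      have h1 : IsPPart 2 (w * (y * r') * w⁻¹) (w * y * w⁻¹) :=
        Blocks.IsPPart.conj (Blocks.isPPart_mul (Subgroup.mem_centralizer_singleton_iff.mp hr').symm hyo
          (by simpa [Subgroup.orderOf_mk] using hreg)) w
      have h2 : IsPPart 2 (o * (y * (r : G)) * o⁻¹) (o * y * o⁻¹) :=
        Blocks.IsPPart.conj (Blocks.isPPart_mul (Subgroup.mem_centralizer_singleton_iff.mp r.2).symm hyo
          (by rw [Subgroup.orderOf_coe]; exact hr)) o
      rw [he'] at h1
      have hxe := Blocks.IsPPart.unique Nat.prime_two h1 h2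
      have hc : o⁻¹ * w ∈ Subgroup.centralizer ({y} : Set G) := by
        rw [Subgroup.mem_centralizer_singleton_iff]
        calc o⁻¹ * w * y = o⁻¹ * (w * y * w⁻¹) * w := by group
          _ = y * (o⁻¹ * w) := by rw [hxe]; group
      refine ⟨⟨o⁻¹ * w, Subgroup.mem_inf.mpr ⟨(core σ m).mul_mem ((core σ m).inv_mem ho) hw, hc⟩⟩, Subtype.ext (Prod.ext (Subtype.ext ?_) (Subtype.ext (Subtype.ext ?_)))⟩
      · exact mul_inv_cancel_left o w
      · show (o⁻¹ * w)⁻¹ * (r : G) * (o⁻¹ * w) = r'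
        have hc' : y * (o⁻¹ * w) = o⁻¹ * w * y := (Subgroup.mem_centralizer_singleton_iff.mp hc).symm
        have e3 : (o⁻¹ * w) * (y * r') * (o⁻¹ * w)⁻¹ = y * (r : G) := by
          calc (o⁻¹ * w) * (y * r') * (o⁻¹ * w)⁻¹ = o⁻¹ * (w * (y * r') * w⁻¹) * o := by group
            _ = y * (r : G) := by rw [he']; group
        rw [← mul_assoc, ← hc', show y * (o⁻¹ * w) * r' * (o⁻¹ * w)⁻¹ = y * ((o⁻¹ * w) * r' * (o⁻¹ * w)⁻¹) by group] at e3
        rw [← mul_left_cancel e3]; group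
  have htot : ∑ v : core σ m × S, (χ : G → ℂ) (f v) = 0 := by
    rw [Fintype.sum_prod_type]
    refine Finset.sum_eq_zero fun w _ => ?_
    rw [← sum_regular_section hM hyo hχ, Finset.sum_subtype (p := fun r : Subgroup.centralizer ({y} : Set G) => ¬ 2 ∣ orderOf r) (Finset.univ.filter _) (fun r => by simp)]
    exact Finset.sum_congr rfl fun r _ => Blocks.irr_classFunction χ _ _
  rw [← Finset.sum_fiberwise_of_maps_to hf] at htot
  rw [Finset.sum_congr rfl (g := fun g => (Nat.card F : ℂ) * (χ : G → ℂ) g) fun g hg => by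
    rw [Finset.sum_congr rfl fun v hv => by rw [(Finset.mem_filter.mp hv).2], Finset.sum_const, hfib g hg,
      nsmul_eq_mul], ← Finset.mul_sum] at htot
  exact (mul_eq_zero.mp htot).resolve_left (Nat.cast_ne_zero.mpr Nat.card_pos.ne')

theorem isConj_z (hc1 : IsConj (σ ^ m) τ) (hc2 : IsConj (σ ^ m) (σ * τ)) {u : G} (hu : orderOf u = 2) :
    IsConj (σ ^ m) u := by
  haveI := Fact.mk Nat.prime_two
  obtain ⟨T, hT⟩ := (Transfer.isPGroup_zpowers (p := 2) ⟨1, by rw [hu, pow_one]⟩).exists_le_sylow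
  obtain ⟨q, hq⟩ := MulAction.exists_smul_eq G T P
  have huP : q * u * q⁻¹ ∈ (P : Subgroup G) := by
    rw [← hq]; exact Subgroup.smul_mem_pointwise_smul _ (MulAut.conj q) _ (hT (Subgroup.mem_zpowers _))
  have hu' := Invol.conj_orderOf_two hu q
  have hback : IsConj (q * u * q⁻¹) u := (isConj_iff.mpr ⟨q, rfl⟩ : IsConj u (q * u * q⁻¹)).symm
  refine IsConj.trans ?_ hback
  obtain ⟨i, hi | hi⟩ := D.cases _ huP
  · rw [hi] at hu' ⊢
    rw [eq_z_of_sq D (pow_mem (Subgroup.mem_zpowers σ) i) (Invol.mul_self_of_orderOf_two hu')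
      (Invol.ne_one_of_orderOf_two hu')]
  · rw [hi]
    obtain ⟨j, hj | hj⟩ := refl_conj D i
    · exact hc1.trans (isConj_iff.mpr ⟨σ ^ j, hj.symm⟩)
    · exact hc2.trans (isConj_iff.mpr ⟨σ ^ j, hj.symm⟩)

/-- The number of pairs, by the characters. -/
theorem pairs_character (hM : IsPModular 2 M) (hc1 : IsConj (σ ^ m) τ) (hc2 : IsConj (σ ^ m) (σ * τ))
    {l : ℕ} (h0 : 0 < l) (hl : l < 2 * m) [DecidableEq G] [DecidablePred (· ∈ principalBlock M G)] :
    ((∑ i ∈ Finset.range (2 * m), (invs σ m (σ ^ i * τ)).card * (invs σ m (σ ^ i * τ * σ ^ l)).card : ℕ) : ℂ) =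
      ((cz σ m).index : ℂ) * ((cz σ m).index : ℂ) / (Nat.card G : ℂ) * ((Nat.card (core σ m) : ℂ) *
        ∑ χ : IrrCharacter G with χ ∈ principalBlock M G,
          (χ : G → ℂ) (σ ^ m) * (χ : G → ℂ) (σ ^ m) * (χ : G → ℂ) (σ ^ l) / (χ : G → ℂ) 1) := by
  classical
  haveI := Blocks.isPrime_of_isPModular hM
  rw [← pairs_eq D h0 hl]
  set z := σ ^ m
  have hinv : ∀ u, IsConj z u → orderOf u = 2 := fun u hu => by
    obtain ⟨c, rfl⟩ := isConj_iff.mp hu; exact Invol.conj_orderOf_two (orderOf_z D) c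
  have hmap : ∀ v ∈ (Finset.univ.filter fun v : G × G =>
      orderOf v.1 = 2 ∧ orderOf v.2 = 2 ∧ v.1 * v.2 * (σ ^ l)⁻¹ ∈ core σ m),
      v.1 * v.2 ∈ Finset.univ.filter fun g : G => g * (σ ^ l)⁻¹ ∈ core σ m := fun v hv =>
    Finset.mem_filter.mpr ⟨Finset.mem_univ _, (Finset.mem_filter.mp hv).2.2.2⟩
  rw [Finset.card_eq_sum_card_fiberwise hmap, Nat.cast_sum]
  rw [Finset.sum_congr rfl (g := fun g => ((cz σ m).index : ℂ) * ((cz σ m).index : ℂ) / (Nat.card G : ℂ) *
      ∑ χ : IrrCharacter G, (χ : G → ℂ) z * (χ : G → ℂ) z * conj ((χ : G → ℂ) g) / (χ : G → ℂ) 1) fun g hg => ?_]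
  · rw [← Finset.mul_sum, Finset.sum_comm]
    congr 1
    rw [Finset.mul_sum, Finset.sum_filter (s := (Finset.univ : Finset (IrrCharacter G)))]
    refine Finset.sum_congr rfl fun χ _ => ?_
    rw [← Finset.sum_div, ← Finset.mul_sum, ← map_sum, coset_sum D hM h0 hl χ]
    split_ifs with hχ
    · rw [map_mul, map_natCast, rot_real D]; ring
    · rw [map_zero, mul_zero, zero_div]
  · rw [← Char.class_mult z z g, Nat.card_eq_fintype_card, Fintype.card_subtype]
    congr 2
    ext v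
    simp only [Finset.mem_filter, Finset.mem_univ, true_and]
    constructor
    · rintro ⟨⟨h1, h2, -⟩, h4⟩
      exact ⟨isConj_z D hc1 hc2 h1, isConj_z D hc1 hc2 h2, h4⟩
    · rintro ⟨h1, h2, h3⟩
      exact ⟨⟨hinv _ h1, hinv _ h2, by rw [h3]; exact (Finset.mem_filter.mp hg).2⟩, h3⟩

theorem sum_invs_products [DecidableEq G] :
    (∑ i ∈ Finset.range (2 * m), (invs σ m (σ ^ i * τ)).card * (invs σ m (σ ^ i * τ * σ ^ m)).card) +
    (∑ i ∈ Finset.range (2 * m), (invs σ m (σ ^ i * τ)).card * (invs σ m (σ ^ i * τ * σ ^ 1)).card) =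
      m * ((invs σ m τ).card + (invs σ m (σ * τ)).card) ^ 2 := by
  classical
  set A := (invs σ m τ).card
  set B := (invs σ m (σ * τ)).card
  have hm := two_le D
  have hshift : ∀ i l : ℕ, l ≤ 2 * m → σ ^ i * τ * σ ^ l = σ ^ (i + (2 * m - l)) * τ := by
    intro i l hl
    have e : (σ ^ l)⁻¹ = σ ^ (2 * m - l) := by
      rw [inv_eq_iff_mul_eq_one, ← pow_add, Nat.add_sub_cancel' hl, pow_period D]
    rw [mul_assoc, tau_mul_pow D, e, ← mul_assoc, ← pow_add]
  rw [← Finset.sum_add_distrib, Finset.sum_congr rfl (g := fun i => (if Even i then A else B) * (A + B)) fun i _ => ?_]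
  · rw [← Finset.sum_mul, sum_parity, sq, ← mul_assoc]
  · rw [hshift i m (by omega), hshift i 1 (by omega), invs_parity D, invs_parity D, invs_parity D,
      show 2 * m - m = m by omega]
    have h1 : Even (i + m) ↔ Even i := by
      rw [Nat.even_add]; simp [even_iff_two_dvd.mpr (even D)]
    have h2 : Even (i + (2 * m - 1)) ↔ ¬ Even i := by
      rw [Nat.even_add]
      have : ¬ Even (2 * m - 1) := Nat.not_even_iff_odd.mpr ⟨m - 1, by omega⟩
      tauto
    simp only [h1, h2]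
    by_cases h : Even i <;> simp [h] <;> ring

theorem sum_char (hM : IsPModular 2 M) (R : Rotations M σ m ζ) (hζ : IsPrimitiveRoot ζ (2 * m)) [DecidablePred (· ∈ principalBlock M G)] :
    1 + (R.δ : ℂ) * (R.a : G → ℂ) 1 ≠ 0 ∧
    (∑ χ : IrrCharacter G with χ ∈ principalBlock M G,
          (χ : G → ℂ) (σ ^ m) * (χ : G → ℂ) (σ ^ m) * (χ : G → ℂ) (σ ^ m) / (χ : G → ℂ) 1) +
    (∑ χ : IrrCharacter G with χ ∈ principalBlock M G,
          (χ : G → ℂ) (σ ^ m) * (χ : G → ℂ) (σ ^ m) * (χ : G → ℂ) (σ ^ 1) / (χ : G → ℂ) 1) =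
      2 + 2 * (R.δ : ℂ) / (R.a : G → ℂ) 1 - 8 / (1 + (R.δ : ℂ) * (R.a : G → ℂ) 1) := by
  classical
  haveI := Blocks.isPrime_of_isPModular hM
  have hm := two_le D
  have hreg : ¬ 2 ∣ orderOf (1 : G) := by simp
  have hd0 : ∀ χ : IrrCharacter G, (χ : G → ℂ) 1 ≠ 0 := fun χ => Char.irr_degree_ne_zero χ.2
  have hδ2 : (R.δ : ℂ) * R.δ = 1 := by rcases R.signδ with h | h <;> simp [h]
  set E := 1 + (R.δ : ℂ) * (R.a : G → ℂ) 1 with hE
  have hbdeg : ∀ j, 0 < j → j < m → (R.b j : G → ℂ) 1 = (R.δ : ℂ) * E := fun j hj hjm => by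
    have h := R.rel_b j hj hjm 1 hreg
    rw [hE, h, ← mul_assoc, hδ2, one_mul]
  have hE0 : E ≠ 0 := fun h => hd0 (R.b 1) (by rw [hbdeg 1 one_pos (by omega), h, mul_zero])
  refine ⟨hE0, ?_⟩
  rw [← Finset.sum_add_distrib]
  set t := Blocks.trivIrr G with ht
  set S : Finset (IrrCharacter G) := insert t (insert R.a ((Finset.Ico 1 m).image R.b)) with hS
  have hzpow : ζ ^ m = -1 := by
    have h2 : ζ ^ m * ζ ^ m = 1 := by rw [← pow_add, ← two_mul, hζ.pow_eq_one]
    exact (mul_self_eq_one_iff.mp h2).resolve_left (hζ.pow_ne_one_of_pos_of_lt (by omega) (by omega))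
  rw [← Finset.sum_subset (s₁ := S) ?_ ?_]
  · have hinj : Set.InjOn R.b ((Finset.Ico 1 m : Finset ℕ) : Set ℕ) := fun i hi j hj h => by
      simp only [Finset.coe_Ico, Set.mem_Ico] at hi hj
      exact R.inj i j hi.1 hi.2 hj.1 hj.2 h
    rw [hS, Finset.sum_insert, Finset.sum_insert, Finset.sum_image hinj]
    · have htv : ∀ g : G, (t : G → ℂ) g = 1 := fun g => rfl
      rw [R.val_a m (by omega) (by omega), R.val_a 1 one_pos (by omega)]
      simp only [htv]
      rw [Finset.sum_congr rfl (g := fun j => 4 / E * (2 * (-1 : ℂ) ^ j + (ζ ^ j - ζ ^ (m - j)))) fun j hj => ?_]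
      · rw [← Finset.mul_sum, Finset.sum_add_distrib, ← Finset.mul_sum, Finset.sum_sub_distrib]
        have h1 : ∑ j ∈ Finset.Ico 1 m, ζ ^ (m - j) = ∑ j ∈ Finset.Ico 1 m, ζ ^ j :=
          Finset.sum_bij' (fun j _ => m - j) (fun j _ => m - j) (fun j hj => by simp at hj ⊢; omega)
            (fun j hj => by simp at hj ⊢; omega) (fun j hj => by simp at hj; omega) (fun j hj => by simp at hj; omega)
            (fun j hj => rfl)
        have h2 : ∑ j ∈ Finset.Ico 1 m, (-1 : ℂ) ^ j = -1 := by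
          have h := Finset.sum_range_add_sum_Ico (fun j => (-1 : ℂ) ^ j) (show 1 ≤ m by omega)
          rw [geom_sum_eq (by norm_num), geom_sum_eq (by norm_num), (even_iff_two_dvd.mpr (even D)).neg_one_pow,
            sub_self, zero_div] at h
          norm_num at h
          linear_combination h
        rw [h1, h2, sub_self]
        have ha0 := hd0 R.a
        have hδ3 : (R.δ : ℂ) * R.δ * R.δ = R.δ := by rw [hδ2, one_mul]
        rw [hδ3]
        field_simp
        ring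
      · rw [Finset.mem_Ico] at hj
        rw [R.val_b j hj.1 hj.2 m (by omega) (by omega), R.val_b j hj.1 hj.2 1 one_pos (by omega),
          hbdeg j hj.1 hj.2, mul_one, mul_comm j m, pow_mul, hzpow]
        have hi : ((-1 : ℂ) ^ j)⁻¹ = (-1) ^ j := by rw [← inv_pow]; norm_num
        have hj' : (ζ ^ j)⁻¹ = -ζ ^ (m - j) := by
          refine inv_eq_of_mul_eq_one_right ?_
          rw [mul_neg, ← pow_add, Nat.add_sub_cancel' hj.2.le, hzpow, neg_neg]
        rw [hi, hj']
        have hsq : ((-1 : ℂ) ^ j) * (-1) ^ j = 1 := by rw [← mul_pow]; norm_num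
        have hδ0 : (R.δ : ℂ) ≠ 0 := left_ne_zero_of_mul_eq_one hδ2
        field_simp
        linear_combination (4 * (R.δ : ℂ) * R.δ * (2 * (-1 : ℂ) ^ j + ζ ^ j - ζ ^ (m - j))) * hsq + (4 * (2 * (-1 : ℂ) ^ j + ζ ^ j - ζ ^ (m - j))) * hδ2
    · rw [Finset.mem_image]
      rintro ⟨j, hj, e⟩
      rw [Finset.mem_Ico] at hj
      exact (R.ne_b j hj.1 hj.2).2.1 e
    · rw [Finset.mem_insert, Finset.mem_image, not_or]
      refine ⟨R.ne_a.symm, ?_⟩
      rintro ⟨j, hj, e⟩
      rw [Finset.mem_Ico] at hj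
      exact (R.ne_b j hj.1 hj.2).1 e
  · intro χ hχ
    refine Finset.mem_filter.mpr ⟨Finset.mem_univ _, ?_⟩
    simp only [hS, Finset.mem_insert, Finset.mem_image, Finset.mem_Ico] at hχ
    rcases hχ with rfl | rfl | ⟨j, hj, rfl⟩
    exacts [Blocks.mem_blockOf_self (Blocks.trivIrr G), R.mem_a, R.mem_b j hj.1 hj.2]
  · intro χ hχ hχS
    have hχB := (Finset.mem_filter.mp hχ).2
    simp only [hS, Finset.mem_insert, Finset.mem_image, Finset.mem_Ico, not_or, not_exists, not_and] at hχS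
    obtain ⟨h1, h2, h3⟩ := hχS
    have hpar : (-1 : ℂ) ^ (m + 1) = -1 := by rw [pow_succ, (even_iff_two_dvd.mpr (even D)).neg_one_pow, one_mul]
    by_cases hc : χ = R.c
    · subst hc
      rw [R.val_c m (by omega) (by omega), R.val_c 1 one_pos (by omega), hpar]; ring
    by_cases he : χ = R.e
    · subst he
      rw [R.val_e m (by omega) (by omega), R.val_e 1 one_pos (by omega), hpar]; ring
    rw [R.val_other χ hχB h1 h2 hc he (fun j hj hjm e => h3 j ⟨hj, hjm⟩ e.symm) m (by omega) (by omega)]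
    simp

end CfsgLib.DihBlock
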