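import Cfsg.Agent.Lib.DihBlock.Basic

/-!
# Dihedral Sylow 2-subgroups: the standing data from an isomorphism or from generators
-/

set_option autoImplicit false
set_option linter.unusedSectionVars false

namespace CfsgLib.DihBlock

open Cfsg

variable {G : Type*} [Group G] [Finite G]

theorem data_of_iso (P : Sylow 2 G) {N : ℕ} {k : ℕ} (hk : 0 < k) (hN : N = 2 * 2 ^ k)
    (e : (P : Subgroup G) ≃* DihedralGroup N) {σ : G} (hσ : σ ∈ (P : Subgroup G)) (hσo : orderOf σ = N) :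
    ∃ τ : G, Data P σ τ (2 ^ k) := by
  classical
  haveI : NeZero N := ⟨by rw [hN]; positivity⟩
  set s : (P : Subgroup G) := ⟨σ, hσ⟩
  obtain ⟨i, hi⟩ : ∃ i, e s = DihedralGroup.r i := by
    rcases h : e s with i | i
    · exact ⟨i, rfl⟩
    · exfalso
      have h2 : orderOf (e s) = 2 := by rw [h]; exact DihedralGroup.orderOf_sr i
      rw [MulEquiv.orderOf_eq, show orderOf s = orderOf σ from (Subgroup.orderOf_mk σ hσ), hσo, hN] at h2
      have : 2 ≤ 2 ^ k := Nat.le_self_pow hk.ne' 2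
      omega
  set t : (P : Subgroup G) := e.symm (DihedralGroup.sr 0)
  have ht2 : t * t = 1 := e.injective (by simp [t])
  have hrel : t * s * t⁻¹ = s⁻¹ := by
    rw [inv_eq_of_mul_eq_one_left ht2]
    exact e.injective (by simp [t, hi])
  have hcard : Nat.card (P : Subgroup G) = 4 * 2 ^ k := by
    rw [Nat.card_congr e.toEquiv, DihedralGroup.nat_card, hN]; ring
  have htn : t ∉ Subgroup.zpowers s := by
    rintro ⟨j, hj⟩
    have h := congrArg e hj
    simp [t, hi, map_zpow, DihedralGroup.r_zpow] at h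
  refine ⟨t, ⟨⟨k, hk, rfl⟩, hσ, t.2, by rw [hσo, hN], congrArg Subtype.val ht2, congrArg Subtype.val hrel, hcard,
    fun x hx => ?_⟩⟩
  have hidx : (Subgroup.zpowers s).index = 2 := by
    have h := (Subgroup.zpowers s).card_mul_index
    rw [Nat.card_zpowers, show orderOf s = orderOf σ from (Subgroup.orderOf_mk σ hσ), hσo, hcard, hN] at h
    refine Nat.eq_of_mul_eq_mul_left (show 0 < 2 * 2 ^ k by positivity) ?_
    rw [h]; ring
  by_cases hxs : (⟨x, hx⟩ : (P : Subgroup G)) ∈ Subgroup.zpowers s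
  · obtain ⟨j, hj⟩ := (mem_powers_iff_mem_zpowers (x := s)).mpr hxs
    exact ⟨j, Or.inl (congrArg Subtype.val hj).symm⟩
  · have hxt : (⟨x, hx⟩ : (P : Subgroup G)) * t ∈ Subgroup.zpowers s :=
      (Subgroup.mul_mem_iff_of_index_two hidx).mpr (iff_of_false hxs htn)
    obtain ⟨j, hj⟩ := (mem_powers_iff_mem_zpowers (x := s)).mpr hxt
    refine ⟨j, Or.inr ?_⟩
    have h : (⟨x, hx⟩ : (P : Subgroup G)) = s ^ j * t := by
      rw [show s ^ j = (⟨x, hx⟩ : (P : Subgroup G)) * t from hj, mul_assoc, ht2, mul_one]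
    exact congrArg Subtype.val h

theorem data_of_generators (P : Sylow 2 G) {k : ℕ} (hk : 0 < k) {σ τ : G}
    (hσ : σ ∈ (P : Subgroup G)) (hτ : τ ∈ (P : Subgroup G)) (hσo : orderOf σ = 2 * 2 ^ k)
    (hτo : orderOf τ = 2) (hrel : τ * σ * τ⁻¹ = σ⁻¹)
    (hgen : Subgroup.closure ({σ, τ} : Set G) = (P : Subgroup G)) : Data P σ τ (2 ^ k) := by
  classical
  have hsq := Invol.mul_self_of_orderOf_two hτo
  have hinv : τ⁻¹ = τ := inv_eq_of_mul_eq_one_left hsq
  have hts : ∀ i : ℤ, τ * σ ^ i = σ ^ (-i) * τ := fun i => by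
    rw [zpow_neg, ← inv_zpow, ← hrel, conj_zpow, inv_mul_cancel_right]
  let K : Subgroup G :=
    { carrier := {x | ∃ i : ℤ, x = σ ^ i ∨ x = σ ^ i * τ}
      one_mem' := ⟨0, Or.inl (zpow_zero σ).symm⟩
      mul_mem' := by
        rintro _ _ ⟨i, rfl | rfl⟩ ⟨j, rfl | rfl⟩
        · exact ⟨i + j, Or.inl (zpow_add σ i j).symm⟩
        · exact ⟨i + j, Or.inr (by rw [← mul_assoc, ← zpow_add])⟩
        · exact ⟨i + -j, Or.inr (by rw [mul_assoc, hts, ← mul_assoc, ← zpow_add])⟩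
        · refine ⟨i + -j, Or.inl ?_⟩
          rw [mul_assoc, ← mul_assoc τ, hts, mul_assoc _ τ τ, hsq, mul_one, ← zpow_add]
      inv_mem' := by
        rintro _ ⟨i, rfl | rfl⟩
        · exact ⟨-i, Or.inl (zpow_neg σ i).symm⟩
        · exact ⟨i, Or.inr (by rw [mul_inv_rev, hinv, ← zpow_neg, hts, neg_neg])⟩ }
  have hPK : (P : Subgroup G) ≤ K := by
    rw [← hgen, Subgroup.closure_le]
    rintro x (rfl | rfl)
    · exact ⟨1, Or.inl (zpow_one x).symm⟩
    · exact ⟨0, Or.inr (by rw [zpow_zero, one_mul])⟩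
  have hcases : ∀ x ∈ (P : Subgroup G), ∃ i : ℕ, x = σ ^ i ∨ x = σ ^ i * τ := by
    intro x hx
    obtain ⟨i, hi⟩ := hPK hx
    obtain ⟨j, hj⟩ := (mem_powers_iff_mem_zpowers (x := σ)).mpr (Subgroup.zpow_mem_zpowers σ i)
    refine ⟨j, ?_⟩
    rw [show σ ^ j = σ ^ i from hj]
    exact hi
  have htn : τ ∉ Subgroup.zpowers σ := by
    rintro ⟨i, hi⟩
    have hi' : σ ^ i = τ := hi
    have e : τ * σ * τ⁻¹ = σ := by
      rw [← hi']; exact mul_inv_eq_iff_eq_mul.mpr (Commute.zpow_self σ i).eq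
    have e2 := hrel.symm.trans e
    rw [inv_eq_iff_mul_eq_one] at e2
    have h4 := orderOf_dvd_of_pow_eq_one (show σ ^ 2 = 1 by rw [sq, e2])
    rw [hσo] at h4
    have := Nat.le_of_dvd two_pos h4
    have : 2 ≤ 2 ^ k := Nat.le_self_pow hk.ne' 2
    omega
  have hcard : Nat.card (P : Subgroup G) = 4 * 2 ^ k := by
    have hset : ((P : Subgroup G) : Set G) =
        (Subgroup.zpowers σ : Set G) ∪ (fun x => x * τ) '' (Subgroup.zpowers σ : Set G) := by
      ext x
      constructor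
      · intro hx
        obtain ⟨i, rfl | rfl⟩ := hcases x hx
        · exact Or.inl (pow_mem (Subgroup.mem_zpowers σ) i)
        · exact Or.inr ⟨σ ^ i, pow_mem (Subgroup.mem_zpowers σ) i, rfl⟩
      · rintro (hx | ⟨y, hy, rfl⟩)
        · exact Subgroup.zpowers_le.mpr hσ hx
        · exact mul_mem (Subgroup.zpowers_le.mpr hσ hy) hτ
    rw [← SetLike.coe_sort_coe, hset, Nat.card_coe_set_eq, Set.ncard_union_eq ?_ (Set.toFinite _) (Set.toFinite _),
      Set.ncard_image_of_injective _ (mul_left_injective τ), ← Nat.card_coe_set_eq, SetLike.coe_sort_coe,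
      Nat.card_zpowers, hσo]
    · ring
    · rw [Set.disjoint_left]
      rintro x hx ⟨y, hy, rfl⟩
      exact htn (((Subgroup.zpowers σ).mul_mem_cancel_left hy).mp hx)
  exact ⟨⟨k, hk, rfl⟩, hσ, hτ, hσo, hsq, hrel, hcard, hcases⟩

end CfsgLib.DihBlock
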