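import Cfsg.Agent.Lib.Transfer.Frobenius
import Cfsg.Agent.Lib.Invol.Dihedral
import Cfsg.Agent.Lib.ZStar.TwoElement

/-!
# Dihedral Sylow 2-subgroups: centralizers of their elements

`P = ⟨σ, τ⟩` of order `4 m`, `σ` of order `2 m`, `z = σ ^ m`.
-/

set_option autoImplicit false
set_option linter.unusedSectionVars false

namespace CfsgLib.DihBlock

open Cfsg

variable {G : Type*} [Group G] [Finite G]

/-- A dihedral Sylow 2-subgroup with a rotation of order `2 m` and a reflection. -/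
structure Data (P : Sylow 2 G) (σ τ : G) (m : ℕ) : Prop where
  pow_two : ∃ k, 0 < k ∧ m = 2 ^ k
  memσ : σ ∈ (P : Subgroup G)
  memτ : τ ∈ (P : Subgroup G)
  ordσ : orderOf σ = 2 * m
  sqτ : τ * τ = 1
  rel : τ * σ * τ⁻¹ = σ⁻¹
  card : Nat.card (P : Subgroup G) = 4 * m
  cases : ∀ x ∈ (P : Subgroup G), ∃ i : ℕ, x = σ ^ i ∨ x = σ ^ i * τ

variable {P : Sylow 2 G} {σ τ : G} {m : ℕ} (D : Data P σ τ m)
include D

theorem two_le : 2 ≤ m := by
  obtain ⟨k, hk, rfl⟩ := D.pow_two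
  exact Nat.le_self_pow hk.ne' 2

theorem even : 2 ∣ m := by
  obtain ⟨k, hk, rfl⟩ := D.pow_two
  exact dvd_pow_self 2 hk.ne'

theorem pow_eq_one_iff {i : ℕ} : σ ^ i = 1 ↔ 2 * m ∣ i := by
  rw [← D.ordσ, orderOf_dvd_iff_pow_eq_one]

theorem pow_eq_pow_iff {i j : ℕ} : σ ^ i = σ ^ j ↔ i % (2 * m) = j % (2 * m) := by
  rw [pow_eq_pow_iff_modEq, D.ordσ, Nat.ModEq]

theorem pow_ne_one {l : ℕ} (h0 : 0 < l) (hl : l < 2 * m) : σ ^ l ≠ 1 := fun e => by
  have := Nat.le_of_dvd h0 ((pow_eq_one_iff D).mp e); omega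

theorem pow_sq_eq_one_iff {l : ℕ} (h0 : 0 < l) (hl : l < 2 * m) :
    σ ^ l * σ ^ l = 1 ↔ l = m := by
  rw [← pow_add, pow_eq_one_iff D]
  constructor
  · rintro ⟨c, hc⟩
    rcases c with _ | _ | c
    · omega
    · omega
    · have : 2 * m * (c + 1 + 1) = 2 * m * c + 4 * m := by ring
      omega
  · rintro rfl; exact ⟨1, by ring⟩

theorem orderOf_z : orderOf (σ ^ m) = 2 := by
  have := two_le D
  exact Invol.orderOf_two_of_mul_self ((pow_sq_eq_one_iff D (by omega) (by omega)).mpr rfl)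
    (pow_ne_one D (by omega) (by omega))

theorem z_mul_self : σ ^ m * σ ^ m = 1 := Invol.mul_self_of_orderOf_two (orderOf_z D)

theorem tau_ne_one : τ ≠ 1 := by
  intro h
  have e := D.rel
  rw [h, one_mul, inv_one, mul_one, eq_inv_iff_mul_eq_one] at e
  have h2 : 2 * m ∣ 2 := (pow_eq_one_iff D).mp (by rw [sq, e])
  have := Nat.le_of_dvd two_pos h2
  have := two_le D
  omega

theorem tau_conj_pow (i : ℕ) : τ * σ ^ i * τ⁻¹ = (σ ^ i)⁻¹ := by
  rw [← conj_pow, D.rel, inv_pow]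

theorem tau_mul_pow (i : ℕ) : τ * σ ^ i = (σ ^ i)⁻¹ * τ := mul_inv_eq_iff_eq_mul.mp (tau_conj_pow D i)

theorem tau_not_mem : τ ∉ Subgroup.zpowers σ := by
  rintro ⟨k, hk⟩
  have hk' : σ ^ k = τ := hk
  have h : τ * σ * τ⁻¹ = σ := by
    rw [← hk']; exact mul_inv_eq_iff_eq_mul.mpr (Commute.zpow_self σ k).eq
  have e := D.rel.symm.trans h
  rw [inv_eq_iff_mul_eq_one] at e
  have h2 : 2 * m ∣ 2 := (pow_eq_one_iff D).mp (by rw [sq, e])
  have := Nat.le_of_dvd two_pos h2
  have := two_le D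
  omega

theorem refl_not_mem (i : ℕ) : σ ^ i * τ ∉ Subgroup.zpowers σ := fun h => tau_not_mem D
  (((Subgroup.zpowers σ).mul_mem_cancel_left (pow_mem (Subgroup.mem_zpowers σ) i)).mp h)

theorem refl_sq (i : ℕ) : σ ^ i * τ * (σ ^ i * τ) = 1 := by
  rw [mul_assoc, ← mul_assoc τ, tau_mul_pow D, mul_assoc _ τ τ, D.sqτ, mul_one, mul_inv_cancel]

theorem orderOf_refl (i : ℕ) : orderOf (σ ^ i * τ) = 2 :=
  Invol.orderOf_two_of_mul_self (refl_sq D i) fun e => refl_not_mem D i (e ▸ one_mem _)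

theorem orderOf_tau : orderOf τ = 2 := by simpa using orderOf_refl D 0

theorem refl_mem (i : ℕ) : σ ^ i * τ ∈ (P : Subgroup G) := mul_mem (pow_mem D.memσ i) D.memτ

theorem mem_zpowers_of_orderOf {x : G} (hx : x ∈ (P : Subgroup G)) (h : x * x ≠ 1) :
    x ∈ Subgroup.zpowers σ := by
  obtain ⟨i, rfl | rfl⟩ := D.cases x hx
  · exact pow_mem (Subgroup.mem_zpowers σ) i
  · exact absurd (refl_sq D i) h

theorem z_commute {x : G} (hx : x ∈ (P : Subgroup G)) : Commute (σ ^ m) x := by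
  obtain ⟨i, rfl | rfl⟩ := D.cases x hx
  · exact Commute.pow_pow (Commute.refl σ) m i
  · refine (Commute.pow_pow (Commute.refl σ) m i).mul_right ?_
    have e := tau_mul_pow D m
    rw [inv_eq_of_mul_eq_one_left (z_mul_self D)] at e
    exact e.symm

theorem sylow_le_centralizer_z : (P : Subgroup G) ≤ Subgroup.centralizer ({σ ^ m} : Set G) :=
  fun _ hx => Subgroup.mem_centralizer_singleton_iff.mpr (z_commute D hx).eq.symm

/-- The same data with the other reflection. -/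
theorem swap : Data P σ (σ * τ) m where
  pow_two := D.pow_two
  memσ := D.memσ
  memτ := mul_mem D.memσ D.memτ
  ordσ := D.ordσ
  sqτ := by simpa using refl_sq D 1
  rel := by
    rw [mul_inv_rev, show σ * τ * σ * (τ⁻¹ * σ⁻¹) = σ * (τ * σ * τ⁻¹) * σ⁻¹ by group, D.rel]
    group
  card := D.card
  cases := fun x hx => by
    obtain ⟨i, rfl | rfl⟩ := D.cases x hx
    · exact ⟨i, Or.inl rfl⟩
    · refine ⟨i + (2 * m - 1), Or.inr ?_⟩
      have h1 : σ ^ (2 * m - 1) * σ = 1 := by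
        rw [← pow_succ, pow_eq_one_iff D]
        exact ⟨1, by have := two_le D; omega⟩
      rw [pow_add, mul_assoc, ← mul_assoc _ σ τ, h1, one_mul]

/-- Every reflection is conjugate in `P` to `τ` or to `σ τ`. -/
theorem refl_conj (i : ℕ) : ∃ j : ℕ, σ ^ i * τ = σ ^ j * τ * (σ ^ j)⁻¹ ∨
    σ ^ i * τ = σ ^ j * (σ * τ) * (σ ^ j)⁻¹ := by
  have key : ∀ j c : ℕ, σ ^ j * (σ ^ c * τ) * (σ ^ j)⁻¹ = σ ^ (j + c + j) * τ := by
    intro j c
    have e : τ * (σ ^ j)⁻¹ = σ ^ j * τ := by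
      rw [← mul_right_inj (σ ^ j)⁻¹, ← mul_assoc, ← tau_mul_pow D, mul_inv_cancel_right,
        ← mul_assoc, inv_mul_cancel, one_mul]
    rw [mul_assoc, mul_assoc, e, ← mul_assoc, ← mul_assoc, ← pow_add, ← pow_add]
  obtain ⟨j, rfl | rfl⟩ := Nat.even_or_odd' i
  · exact ⟨j, Or.inl (by rw [show σ ^ j * τ * (σ ^ j)⁻¹ = σ ^ j * (σ ^ 0 * τ) * (σ ^ j)⁻¹ by simp, key]; congr 2; omega)⟩
  · exact ⟨j, Or.inr (by rw [show σ * τ = σ ^ 1 * τ by simp, key]; congr 2; omega)⟩

theorem card_centralizer_rot {l : ℕ} (hl : σ ^ l * σ ^ l ≠ 1) :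
    (P : Subgroup G) ⊓ Subgroup.centralizer ({σ ^ l} : Set G) = Subgroup.zpowers σ := by
  refine le_antisymm ?_ (Subgroup.zpowers_le.mpr (Subgroup.mem_inf.mpr
    ⟨D.memσ, Subgroup.mem_centralizer_singleton_iff.mpr (Commute.self_pow σ l).eq⟩))
  intro x hx
  obtain ⟨hxP, hxc⟩ := Subgroup.mem_inf.mp hx
  obtain ⟨i, rfl | rfl⟩ := D.cases x hxP
  · exact pow_mem (Subgroup.mem_zpowers σ) i
  exfalso
  apply hl
  have e := Subgroup.mem_centralizer_singleton_iff.mp hxc
  rw [mul_assoc, tau_mul_pow D, ← mul_assoc, ← mul_assoc] at e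
  have e' := mul_right_cancel e
  rw [← (Commute.pow_pow (Commute.refl σ) i l).eq] at e'
  have e2 := mul_left_cancel e'
  exact inv_eq_iff_mul_eq_one.mp e2

theorem centralizer_refl (i : ℕ) :
    ∀ x ∈ (P : Subgroup G) ⊓ Subgroup.centralizer ({σ ^ i * τ} : Set G),
      x = 1 ∨ x = σ ^ m ∨ x = σ ^ i * τ ∨ x = σ ^ m * (σ ^ i * τ) := by
  have key : ∀ x ∈ Subgroup.centralizer ({σ ^ i * τ} : Set G), ∀ j : ℕ, x = σ ^ j →
      x = 1 ∨ x = σ ^ m := by
    rintro x hx j rfl
    have e := Subgroup.mem_centralizer_singleton_iff.mp hx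
    rw [mul_assoc _ τ, tau_mul_pow D, ← mul_assoc, ← mul_assoc,
      (Commute.pow_pow (Commute.refl σ) j i).eq] at e
    have h2 : σ ^ j * σ ^ j = 1 := by
      have := mul_left_cancel (mul_right_cancel e)
      exact eq_inv_iff_mul_eq_one.mp this
    have hj := Nat.mod_add_div j (2 * m)
    set r := j % (2 * m)
    have hr : σ ^ j = σ ^ r := by rw [← hj, pow_add, pow_mul, (pow_eq_one_iff D).mpr dvd_rfl, one_pow, mul_one]
    rcases Nat.eq_zero_or_pos r with h0 | h0
    · exact Or.inl (by rw [hr, h0, pow_zero])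
    · rw [hr] at h2
      exact Or.inr (by rw [hr, (pow_sq_eq_one_iff D h0 (Nat.mod_lt _ (by have := two_le D; omega))).mp h2])
  intro x hx
  obtain ⟨hxP, hxc⟩ := Subgroup.mem_inf.mp hx
  obtain ⟨j, hj | hj⟩ := D.cases x hxP
  · rcases key x hxc j hj with h | h
    · exact Or.inl h
    · exact Or.inr (Or.inl h)
  · have hmem : x * (σ ^ i * τ) ∈ Subgroup.centralizer ({σ ^ i * τ} : Set G) :=
      mul_mem hxc (Subgroup.mem_centralizer_singleton_iff.mpr rfl)
    have hrot : x * (σ ^ i * τ) = σ ^ j * (σ ^ i)⁻¹ := by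
      rw [hj, mul_assoc, ← mul_assoc τ, tau_mul_pow D, mul_assoc _ τ τ, D.sqτ, mul_one]
    have hz : x * (σ ^ i * τ) ∈ Subgroup.zpowers σ := by
      rw [hrot]; exact mul_mem (pow_mem (Subgroup.mem_zpowers σ) j) (inv_mem (pow_mem (Subgroup.mem_zpowers σ) i))
    obtain ⟨l, hl⟩ := (mem_powers_iff_mem_zpowers (x := σ)).mpr hz
    have hsolve : ∀ w, x * (σ ^ i * τ) = w → x = w * (σ ^ i * τ) := fun w hw => by
      rw [← hw, mul_assoc, refl_sq D, mul_one]
    rcases key _ hmem l hl.symm with h | h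
    · exact Or.inr (Or.inr (Or.inl (by rw [hsolve _ h, one_mul])))
    · exact Or.inr (Or.inr (Or.inr (hsolve _ h)))

theorem card_centralizer_refl (i : ℕ) :
    Nat.card ↥((P : Subgroup G) ⊓ Subgroup.centralizer ({σ ^ i * τ} : Set G)) = 4 := by
  classical
  set t := σ ^ i * τ with ht
  set K := (P : Subgroup G) ⊓ Subgroup.centralizer ({t} : Set G)
  have hz : σ ^ m ∈ K := Subgroup.mem_inf.mpr ⟨pow_mem D.memσ m,
    Subgroup.mem_centralizer_singleton_iff.mpr (z_commute D (refl_mem D i)).eq⟩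
  have htK : t ∈ K := Subgroup.mem_inf.mpr ⟨refl_mem D i, Subgroup.mem_centralizer_singleton_iff.mpr rfl⟩
  have hne1 : t ≠ 1 := Invol.ne_one_of_orderOf_two (orderOf_refl D i)
  have hnez : t ≠ σ ^ m := fun e => refl_not_mem D i (by rw [← ht, e]; exact pow_mem (Subgroup.mem_zpowers σ) m)
  have hz1 : σ ^ m ≠ 1 := Invol.ne_one_of_orderOf_two (orderOf_z D)
  have hset : (K : Set G) = ↑({1, σ ^ m, t, σ ^ m * t} : Finset G) := by
    ext x
    simp only [SetLike.mem_coe, Finset.coe_insert, Finset.coe_singleton, Set.mem_insert_iff,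
      Set.mem_singleton_iff]
    refine ⟨centralizer_refl D i x, ?_⟩
    rintro (rfl | rfl | rfl | rfl)
    exacts [one_mem K, hz, htK, mul_mem hz htK]
  rw [← SetLike.coe_sort_coe, hset, Nat.card_coe_set_eq, Set.ncard_coe_finset,
    Finset.card_insert_of_notMem, Finset.card_insert_of_notMem, Finset.card_insert_of_notMem,
    Finset.card_singleton]
  · simp only [Finset.mem_singleton]
    exact fun e => hz1 (mul_eq_right.mp e.symm)
  · simp only [Finset.mem_insert, Finset.mem_singleton, not_or]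
    exact ⟨hnez.symm, fun e => hne1 (mul_eq_left.mp e.symm)⟩
  · simp only [Finset.mem_insert, Finset.mem_singleton, not_or]
    refine ⟨hz1.symm, hne1.symm, fun e => hnez ?_⟩
    rw [← mul_one (σ ^ m), e, ← mul_assoc, z_mul_self D, one_mul]

/-- A Sylow subgroup of the centralizer of an element of `P` inside `P`, if no conjugate in `P` has a
larger centralizer in `P`. -/
theorem exists_sylow_centralizer {y : G} (hy : y ∈ (P : Subgroup G))
    (hmax : ∀ g : G, g * y * g⁻¹ ∈ (P : Subgroup G) →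
      Nat.card ↥((P : Subgroup G) ⊓ Subgroup.centralizer ({g * y * g⁻¹} : Set G)) ≤
        Nat.card ↥((P : Subgroup G) ⊓ Subgroup.centralizer ({y} : Set G))) :
    ∃ Q : Sylow 2 (Subgroup.centralizer ({y} : Set G)),
      (Q : Subgroup (Subgroup.centralizer ({y} : Set G))).map (Subgroup.centralizer ({y} : Set G)).subtype
        = (P : Subgroup G) ⊓ Subgroup.centralizer ({y} : Set G) := by
  classical
  haveI := Fact.mk Nat.prime_two
  set C := Subgroup.centralizer ({y} : Set G) with hC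
  set K := (P : Subgroup G) ⊓ C
  obtain ⟨Q, hQ⟩ := (P.2.comap_of_injective C.subtype C.subtype_injective).exists_le_sylow
  refine ⟨Q, (Subgroup.eq_of_le_of_card_ge ?_ ?_).symm⟩
  · intro x hx
    exact ⟨⟨x, (Subgroup.mem_inf.mp hx).2⟩, hQ (Subgroup.mem_inf.mp hx).1, rfl⟩
  · have hQp : IsPGroup 2 ((Q : Subgroup C).map C.subtype) := Q.2.map _
    obtain ⟨g, hg⟩ := Transfer.exists_map_conj_le_sylow hQp P
    have hyQ : ∀ x ∈ (Q : Subgroup C).map C.subtype, Commute x y := by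
      rintro _ ⟨c, -, rfl⟩
      exact Subgroup.mem_centralizer_singleton_iff.mp c.2
    by_cases hgy : g * y * g⁻¹ ∈ (P : Subgroup G)
    · refine le_trans ?_ (hmax g hgy)
      rw [← Subgroup.card_map_of_injective (K := (Q : Subgroup C).map C.subtype) (MulAut.conj g).injective
        (f := (MulAut.conj g).toMonoidHom)]
      refine Subgroup.card_le_of_le (le_inf hg ?_)
      rintro _ ⟨x, hx, rfl⟩
      rw [Subgroup.mem_centralizer_singleton_iff]
      show g * x * g⁻¹ * (g * y * g⁻¹) = g * y * g⁻¹ * (g * x * g⁻¹)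
      calc _ = g * (x * y) * g⁻¹ := by group
        _ = g * (y * x) * g⁻¹ := by rw [(hyQ x hx).eq]
        _ = _ := by group
    · exfalso
      apply hgy
      refine hg ⟨y, ?_, rfl⟩
      exact ⟨⟨y, Subgroup.mem_centralizer_singleton_iff.mpr rfl⟩, hQ hy, rfl⟩

/-- The centralizer of an element of `P` has a normal 2-complement. -/
theorem npc_of_fixed {y : G} (Q : Sylow 2 (Subgroup.centralizer ({y} : Set G))) {K : Subgroup G}
    (hQ : (Q : Subgroup (Subgroup.centralizer ({y} : Set G))).map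
      (Subgroup.centralizer ({y} : Set G)).subtype = K)
    (h : ∀ R : Subgroup G, R ≤ K → ∀ g ∈ Subgroup.centralizer ({y} : Set G), Odd (orderOf g) →
      g ∈ Subgroup.normalizer (R : Set G) → ∀ a ∈ R, g * a * g⁻¹ = a) :
    HasNormalPComplement 2 (Subgroup.centralizer ({y} : Set G)) := by
  haveI := Fact.mk Nat.prime_two
  refine Transfer.hasNormalPComplement_of_pAutomizers
    (Transfer.pAutomizers_of_sylow Q fun R hR g hg hodd => ?_)
  have h1 := h (R.map (Subgroup.centralizer ({y} : Set G)).subtype)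
    (le_of_le_of_eq (Subgroup.map_mono hR) hQ) (g : G) g.2
    (Nat.coprime_two_right.mp (by rwa [Subgroup.orderOf_coe]))
    (Subgroup.le_normalizer_map _ (Subgroup.mem_map_of_mem _ hg))
  rw [Subgroup.mem_centralizer_iff]
  intro a ha
  exact Subtype.ext (mul_inv_eq_iff_eq_mul.mp (h1 a (Subgroup.mem_map_of_mem _ ha))).symm

omit D in
/-- An element of odd order fixing `r` and sending `b` to `b r`, with `r` a 2-element: `r = 1`. -/
theorem eq_one_of_conj_mul {g b r : G} (hodd : Odd (orderOf g)) (hb : g * b * g⁻¹ = b * r)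
    (hr : g * r * g⁻¹ = r) (hrp : ∃ k, orderOf r = 2 ^ k) : r = 1 := by
  have key : ∀ n : ℕ, g ^ n * b * (g ^ n)⁻¹ = b * r ^ n := by
    intro n
    induction n with
    | zero => simp
    | succ n ih =>
      rw [pow_succ', mul_inv_rev, show g * g ^ n * b * ((g ^ n)⁻¹ * g⁻¹) = g * (g ^ n * b * (g ^ n)⁻¹) * g⁻¹ by group,
        ih, show g * (b * r ^ n) * g⁻¹ = (g * b * g⁻¹) * (g * r ^ n * g⁻¹) by group, hb, ← conj_pow, hr,
        mul_assoc, ← pow_succ']
  have h := key (orderOf g)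
  rw [pow_orderOf_eq_one, one_mul, inv_one, mul_one, left_eq_mul] at h
  obtain ⟨k, hk⟩ := hrp
  rw [← orderOf_eq_one_iff, hk]
  rw [← orderOf_dvd_iff_pow_eq_one, hk] at h
  rcases Nat.eq_zero_or_pos k with rfl | hk0
  · exact pow_zero 2
  · exact absurd ((dvd_pow_self 2 hk0.ne').trans h) (by obtain ⟨j, hj⟩ := hodd; omega)

theorem exists_orderOf {x : G} (hx : x ∈ (P : Subgroup G)) : ∃ k, orderOf x = 2 ^ k :=
  let ⟨k, hk⟩ := IsPGroup.iff_orderOf.mp P.2 ⟨x, hx⟩
  ⟨k, by rwa [← Subgroup.orderOf_mk]⟩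

omit D in
theorem mem_zpowers_of_same_order {s a c : G} (ha : a ∈ Subgroup.zpowers s) (hc : c ∈ Subgroup.zpowers s)
    (h : orderOf c = orderOf a) : c ∈ Subgroup.zpowers a := by
  classical
  haveI := Fintype.ofFinite (Subgroup.zpowers s)
  set A : Subgroup (Subgroup.zpowers s) := Subgroup.zpowers ⟨a, ha⟩
  haveI := Fintype.ofFinite A
  suffices hcA : (⟨c, hc⟩ : Subgroup.zpowers s) ∈ A by
    obtain ⟨k, hk⟩ := Subgroup.mem_zpowers_iff.mp hcA
    exact Subgroup.mem_zpowers_iff.mpr ⟨k, by simpa using congrArg Subtype.val hk⟩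
  by_contra hcA
  have hle := IsCyclic.card_pow_eq_one_le (α := Subgroup.zpowers s) (n := orderOf a) (orderOf_pos a)
  have hsub : insert (⟨c, hc⟩ : Subgroup.zpowers s) (Finset.univ.filter (· ∈ A)) ⊆
      Finset.univ.filter fun x => x ^ orderOf a = 1 := by
    intro x hx
    simp only [Finset.mem_insert, Finset.mem_filter, Finset.mem_univ, true_and] at hx ⊢
    apply Subtype.ext
    rcases hx with rfl | hx
    · show c ^ orderOf a = 1
      rw [← h, pow_orderOf_eq_one]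
    · obtain ⟨k, rfl⟩ := Subgroup.mem_zpowers_iff.mp hx
      show (a ^ k) ^ orderOf a = 1
      rw [← zpow_natCast, ← zpow_mul, mul_comm, zpow_mul, zpow_natCast, pow_orderOf_eq_one, one_zpow]
  have := Finset.card_le_card hsub
  rw [Finset.card_insert_of_notMem (by simp [hcA]), ← Fintype.card_subtype, ← Nat.card_eq_fintype_card,
    Nat.card_zpowers, Subgroup.orderOf_mk] at this
  omega

omit D in
/-- An element of odd order sending a 2-element to one of its powers fixes it. -/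
theorem conj_eq_of_zpow {g a : G} {k : ℤ} (hodd : Odd (orderOf g)) (ha : ∃ j, orderOf a = 2 ^ j)
    (h : g * a * g⁻¹ = a ^ k) : g * a * g⁻¹ = a := by
  obtain ⟨j, hj⟩ := ha
  have key : ∀ n : ℕ, g ^ n * a * (g ^ n)⁻¹ = a ^ (k ^ n) := by
    intro n
    induction n with
    | zero => simp
    | succ n ih =>
      rw [pow_succ', mul_inv_rev, show g * g ^ n * a * ((g ^ n)⁻¹ * g⁻¹) = g * (g ^ n * a * (g ^ n)⁻¹) * g⁻¹ by group,
        ih, ← conj_zpow, h, ← zpow_mul, pow_succ']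
  have h1 := key (orderOf g)
  rw [pow_orderOf_eq_one, one_mul, inv_one, mul_one] at h1
  have hdvd : ((2 : ℤ) ^ j) ∣ k ^ orderOf g - 1 := by
    have h2 : a ^ (k ^ orderOf g - 1) = 1 := by rw [zpow_sub_one, ← h1, mul_inv_cancel]
    have := orderOf_dvd_iff_zpow_eq_one.mpr h2
    rw [hj] at this
    exact_mod_cast this
  rcases Nat.eq_zero_or_pos j with rfl | hj0
  · rw [pow_zero, orderOf_eq_one_iff] at hj
    simp [hj]
  have hd : orderOf g ≠ 0 := (orderOf_pos g).ne'
  have hk2 : ((k : ℤ) : ZMod 2) = 1 := by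
    have h2 : ((k ^ orderOf g - 1 : ℤ) : ZMod 2) = 0 :=
      (ZMod.intCast_zmod_eq_zero_iff_dvd _ _).mpr ((dvd_pow_self (2 : ℤ) hj0.ne').trans hdvd)
    push_cast at h2
    generalize ((k : ℤ) : ZMod 2) = x at h2 ⊢
    rcases (show ∀ y : ZMod 2, y = 0 ∨ y = 1 by decide) x with rfl | rfl
    · simp [zero_pow hd] at h2
    · rfl
  have hsum : IsCoprime ((2 : ℤ) ^ j) (∑ i ∈ Finset.range (orderOf g), k ^ i) := by
    refine IsCoprime.pow_left ((Int.prime_two.coprime_iff_not_dvd).mpr fun hd2 => ?_)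
    have := (ZMod.intCast_zmod_eq_zero_iff_dvd _ 2).mpr hd2
    push_cast at this
    rw [hk2] at this
    simp [ZMod.natCast_eq_zero_iff_even, Nat.not_even_iff_odd.mpr hodd] at this
  rw [← geom_sum_mul] at hdvd
  have hk1 := hsum.dvd_of_dvd_mul_left hdvd
  have h2 : a ^ (k - 1) = 1 := orderOf_dvd_iff_zpow_eq_one.mp (by rw [hj]; exact_mod_cast hk1)
  rw [h, ← mul_inv_eq_one, ← zpow_sub_one, h2]

/-- An element of odd order normalizing a subgroup of `P` and centralizing `z` centralizes it. -/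
theorem fixed_of_commute_z {R : Subgroup G} (hR : R ≤ (P : Subgroup G)) {g : G} (hodd : Odd (orderOf g))
    (hn : g ∈ Subgroup.normalizer (R : Set G)) (hgz : Commute g (σ ^ m)) :
    ∀ a ∈ R, g * a * g⁻¹ = a := by
  have hmem : ∀ a ∈ R, g * a * g⁻¹ ∈ R := fun a ha => (Subgroup.mem_normalizer_iff.mp hn a).mp ha
  -- rotations
  have hrot : ∀ a ∈ R, a ∈ Subgroup.zpowers σ → g * a * g⁻¹ = a := by
    intro a ha haσ
    by_cases h2 : a * a = 1
    · obtain ⟨l, hl⟩ := (mem_powers_iff_mem_zpowers (x := σ)).mpr haσ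
      obtain rfl : σ ^ l = a := hl
      have hlm := Nat.mod_lt l (show 0 < 2 * m by have := two_le D; omega)
      have e : σ ^ l = σ ^ (l % (2 * m)) := by rw [← D.ordσ, pow_mod_orderOf]
      rw [e] at h2 ⊢
      rcases Nat.eq_zero_or_pos (l % (2 * m)) with h0 | h0
      · simp [h0]
      · rw [(pow_sq_eq_one_iff D h0 hlm).mp h2, hgz.eq, mul_inv_cancel_right]
    · have hc2 : (g * a * g⁻¹) * (g * a * g⁻¹) ≠ 1 := fun e => h2 (by
        rw [show g * a * g⁻¹ * (g * a * g⁻¹) = g * (a * a) * g⁻¹ by group] at e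
        exact conj_eq_one_iff.mp e)
      have hcσ := mem_zpowers_of_orderOf D (hR (hmem a ha)) hc2
      obtain ⟨k, hk⟩ := Subgroup.mem_zpowers_iff.mp
        (mem_zpowers_of_same_order haσ hcσ (Transfer.orderOf_conj g a))
      exact conj_eq_of_zpow hodd (exists_orderOf D (hR ha)) hk.symm
  intro b hb
  by_cases hbσ : b ∈ Subgroup.zpowers σ
  · exact hrot b hb hbσ
  set c := g * b * g⁻¹
  have hcσ : c ∉ Subgroup.zpowers σ := fun h => hbσ (by
    have := hrot c (hmem b hb) h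
    have e : c = b := by
      have e2 : g * c * g⁻¹ = g * b * g⁻¹ := this
      exact mul_left_cancel (mul_right_cancel e2)
    rwa [e] at h)
  obtain ⟨i, hi | hi⟩ := D.cases b (hR hb)
  · exact absurd (hi ▸ pow_mem (Subgroup.mem_zpowers σ) i) hbσ
  obtain ⟨j, hj | hj⟩ := D.cases c (hR (hmem b hb))
  · exact absurd (hj ▸ pow_mem (Subgroup.mem_zpowers σ) j) hcσ
  set r := b⁻¹ * c
  have hrR : r ∈ R := mul_mem (inv_mem hb) (hmem b hb)
  have hrσ : r ∈ Subgroup.zpowers σ := by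
    show b⁻¹ * c ∈ _
    rw [hi, hj, inv_eq_of_mul_eq_one_left (refl_sq D i), mul_assoc, ← mul_assoc τ, tau_mul_pow D,
      mul_assoc _ τ τ, D.sqτ, mul_one]
    exact mul_mem (pow_mem (Subgroup.mem_zpowers σ) i) (inv_mem (pow_mem (Subgroup.mem_zpowers σ) j))
  have e : r = 1 := eq_one_of_conj_mul hodd (show g * b * g⁻¹ = b * r by simp [r, c])
    (hrot r hrR hrσ) (exists_orderOf D (hR hrR))
  exact (inv_mul_eq_one.mp e).symm

end CfsgLib.DihBlock
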