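import Cfsg.Agent.Lib.DihBlock.Centralizer
import Cfsg.Agent.Lib.Blocks.SectionOrth
import Cfsg.Agent.Lib.Blocks.PrincipalQuot
import Cfsg.Agent.Lib.Blocks.RegPart
import Cfsg.Agent.Lib.Char.Eigen
import Cfsg.Agent.Lib.Char.CMValue

/-!
# The principal 2-block at a dihedral Sylow 2-subgroup: columns and their transforms
-/

set_option autoImplicit false
set_option linter.unusedSectionVars false
set_option linter.style.haveILetI false

namespace CfsgLib.DihBlock

open Cfsg CfsgLib
open scoped ComplexConjugate CfsgLib.Char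

variable {G : Type*} [Group G] [Fintype G] {M : Ideal AlgInt}

/-- Characters of the principal block are constant on the section of an element whose centralizer
has a normal 2-complement. -/
theorem value_mul_regular (hM : IsPModular 2 M) {x : G} (hx : ∃ k, orderOf x = 2 ^ k)
    (hnpc : HasNormalPComplement 2 (Subgroup.centralizer ({x} : Set G)))
    {χ : IrrCharacter G} (hχ : χ ∈ principalBlock M G) {v : G} (hcom : Commute x v)
    (hv : ¬ 2 ∣ orderOf v) : (χ : G → ℂ) (x * v) = (χ : G → ℂ) x := by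
  classical
  haveI := Fact.mk Nat.prime_two
  haveI := Blocks.isPrime_of_isPModular hM
  haveI : Fintype (Subgroup.centralizer ({x} : Set G)) := Fintype.ofFinite _
  set w : Subgroup.centralizer ({x} : Set G) :=
    ⟨v, Subgroup.mem_centralizer_singleton_iff.mpr hcom.symm.eq⟩
  have hw : ¬ 2 ∣ orderOf w := by rw [← Subgroup.orderOf_coe]; exact hv
  have hwO : w ∈ pPrimeCore 2 (Subgroup.centralizer ({x} : Set G)) := by
    rw [Transfer.pPrimeCore_eq_pResidual hnpc]
    exact Transfer.mem_pResidual_of_coprime ((Nat.prime_two.coprime_iff_not_dvd).mpr hw).symm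
  have h := Blocks.value_mul_pPrimeCore hM hx hχ (y := 1) (v := w) (by simp) (by rwa [one_mul]) hwO
  simpa [w] using h

theorem norm_column (hM : IsPModular 2 M) {x : G} (hx : ∃ k, orderOf x = 2 ^ k)
    (hnpc : HasNormalPComplement 2 (Subgroup.centralizer ({x} : Set G)))
    (Q : Sylow 2 (Subgroup.centralizer ({x} : Set G))) [DecidablePred (· ∈ principalBlock M G)] :
    ∑ χ : IrrCharacter G with χ ∈ principalBlock M G, (χ : G → ℂ) x * conj ((χ : G → ℂ) x) =
      (Nat.card Q : ℂ) := by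
  classical
  haveI : Fintype (Subgroup.centralizer ({x} : Set G)) := Fintype.ofFinite _
  rw [Blocks.sum_principal_norm_sq hM hx, Blocks.sum_sq_degree_principal_of_npc hM hnpc Q]

theorem geom_sum_root {N : ℕ} {c : ℂ} (hc : c ^ N = 1) :
    ∑ l ∈ Finset.range N, c ^ l = if c = 1 then (N : ℂ) else 0 := by
  split_ifs with h
  · simp [h]
  · rw [geom_sum_eq h, hc, sub_self, zero_div]

/-- The degree and the value at an involution have the same parity. -/
theorem exists_value_involution {χ : IrrCharacter G} {t : G} (ht : t * t = 1) :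
    ∃ k : ℤ, (χ : G → ℂ) t = k ∧ 2 ∣ (charDegree (χ : G → ℂ) : ℤ) - k := by
  obtain ⟨n, ρ, hρ, hχ⟩ := χ.2
  obtain ⟨b, μ, hμ, hb⟩ := Char.exists_eigenBasis_of_pow_eq_one (ρ t) two_ne_zero
    (by rw [pow_two, ← map_mul, ht, map_one])
  have hμ1 : ∀ i, ∃ e : ℤ, μ i = e ∧ 2 ∣ 1 - e := fun i => by
    rcases sq_eq_one_iff.mp (hμ i) with e | e
    · exact ⟨1, by simp [e], by norm_num⟩
    · exact ⟨-1, by simp [e], by norm_num⟩
  choose e he hdvd using hμ1
  refine ⟨∑ i, e i, ?_, ?_⟩
  · rw [← hχ]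
    show LinearMap.trace ℂ _ (ρ t) = _
    rw [Char.trace_eq_sum_of_diag b _ _ hb, Int.cast_sum]
    exact Finset.sum_congr rfl fun i _ => he i
  · have hd : (charDegree (χ : G → ℂ) : ℤ) = ∑ _i : Fin (Module.finrank ℂ (Fin n → ℂ)), (1 : ℤ) := by
      rw [← hχ]
      simp [charDegree, Representation.char_one]
    rw [hd, ← Finset.sum_sub_distrib]
    exact Finset.dvd_sum fun i _ => hdvd i

variable {P : Sylow 2 G} {σ τ : G} {m : ℕ} (D : Data P σ τ m)

/-- The multiplicities of the roots of unity in a rotation. -/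
theorem exists_mult (χ : IrrCharacter G) {N : ℕ} {s : G} (hs : s ^ N = 1) (hN : 0 < N) {c : ℂ}
    (hc : c ^ N = 1) : ∃ n : ℕ, ∑ i ∈ Finset.range N, (χ : G → ℂ) (s ^ i) * c ^ i = (N : ℂ) * n := by
  classical
  obtain ⟨k, ρ, hρ, hχ⟩ := χ.2
  obtain ⟨b, μ, hμ, hb⟩ := Char.exists_eigenBasis_of_pow_eq_one (ρ s) hN.ne'
    (by rw [← map_pow, hs, map_one])
  have hval : ∀ i : ℕ, (χ : G → ℂ) (s ^ i) = ∑ t, μ t ^ i := by
    intro i
    rw [← hχ]
    show LinearMap.trace ℂ _ (ρ (s ^ i)) = _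
    refine Char.trace_eq_sum_of_diag b _ _ fun t => ?_
    induction i with
    | zero => simp
    | succ i ih => rw [pow_succ', map_mul, Module.End.mul_apply, ih, map_smul, hb, smul_smul, pow_succ]
  refine ⟨(Finset.univ.filter fun t => μ t * c = 1).card, ?_⟩
  simp only [hval, Finset.sum_mul]
  rw [Finset.sum_comm]
  simp only [← mul_pow]
  rw [Finset.sum_congr rfl fun t _ => geom_sum_root (show (μ t * c) ^ N = 1 by rw [mul_pow, hμ, hc, one_mul]),
    ← Finset.sum_filter, Finset.sum_const, nsmul_eq_mul, mul_comm]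

include D

theorem pow_period : σ ^ (2 * m) = 1 := D.ordσ ▸ pow_orderOf_eq_one σ

theorem rot_real (χ : IrrCharacter G) (i : ℕ) : conj ((χ : G → ℂ) (σ ^ i)) = (χ : G → ℂ) (σ ^ i) := by
  rw [← Char.value_inv_eq_conj (Char.isCharacter_of_isIrr χ.2), ← tau_conj_pow D i]
  exact Blocks.irr_classFunction χ (σ ^ i) τ

theorem rot_sub (χ : IrrCharacter G) {l : ℕ} (hl : l ≤ 2 * m) :
    (χ : G → ℂ) (σ ^ (2 * m - l)) = (χ : G → ℂ) (σ ^ l) := by
  have h : σ ^ (2 * m - l) = τ * σ ^ l * τ⁻¹ := by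
    rw [tau_conj_pow D, eq_inv_iff_mul_eq_one, ← pow_add, Nat.sub_add_cancel hl, pow_period D]
  rw [h]
  exact Blocks.irr_classFunction χ (σ ^ l) τ

theorem column_orth (hM : IsPModular 2 M) [DecidablePred (· ∈ principalBlock M G)] {l l' : ℕ}
    (h0 : 0 < l) (hl : l < 2 * m) (h0' : 0 < l') (hl' : l' < 2 * m) :
    ∑ χ : IrrCharacter G with χ ∈ principalBlock M G, (χ : G → ℂ) (σ ^ l) * (χ : G → ℂ) (σ ^ l') =
      (2 * m : ℂ) * ((if l = l' then 1 else 0) + (if l + l' = 2 * m then 1 else 0)) := by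
  classical
  haveI := Blocks.isPrime_of_isPModular hM
  have hord : ∀ j, ∃ k, orderOf (σ ^ j) = 2 ^ k := fun j => exists_orderOf D (pow_mem D.memσ j)
  have key : ∑ χ : IrrCharacter G with χ ∈ principalBlock M G,
      (χ : G → ℂ) (σ ^ l) * conj ((χ : G → ℂ) (σ ^ l)) =
      (2 * m : ℂ) * (1 + if l + l = 2 * m then 1 else 0) := by
    by_cases hlm : l = m
    · subst hlm
      obtain ⟨Q, hQ, -, hnpc⟩ := z_centralizer D
      rw [norm_column hM (hord l) hnpc Q, hQ, if_pos (two_mul l).symm]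
      push_cast; ring
    · obtain ⟨Q, hQ, hnpc⟩ := rot_centralizer D (pow_mem (Subgroup.mem_zpowers σ) l)
        fun e => hlm ((pow_sq_eq_one_iff D h0 hl).mp e)
      rw [norm_column hM (hord l) hnpc Q, hQ, if_neg (by omega)]
      push_cast; ring
  simp only [rot_real D] at key
  by_cases h1 : l = l'
  · subst h1
    rw [key, if_pos rfl]
  by_cases h2 : l + l' = 2 * m
  · obtain rfl : l' = 2 * m - l := by omega
    rw [Finset.sum_congr rfl fun χ _ => by rw [rot_sub D χ hl.le], key, if_neg h1, if_pos h2,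
      if_neg (by omega)]
    ring
  rw [if_neg h1, if_neg h2, add_zero, mul_zero]
  have hself : ∀ j, IsPPart 2 (σ ^ j) (σ ^ j) := fun j => by
    have h := Blocks.isPPart_mul (p := 2) (Commute.one_right (σ ^ j)) (hord j) (by simp)
    rwa [mul_one] at h
  have h := Blocks.sum_block_eq_zero_of_not_isConj hM (hself l) (hself l')
    (fun hc => (rot_fusion D h0 hl h0' hl' hc).elim h1 h2) (B := principalBlock M G) Blocks.isPBlock_principalBlock
  simpa only [rot_real D] using h

theorem column_regular (hM : IsPModular 2 M) [DecidablePred (· ∈ principalBlock M G)] {l : ℕ}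
    (h0 : 0 < l) (hl : l < 2 * m) {ρ : G} (hρ : ¬ 2 ∣ orderOf ρ) :
    ∑ χ : IrrCharacter G with χ ∈ principalBlock M G, (χ : G → ℂ) (σ ^ l) * (χ : G → ℂ) ρ = 0 := by
  classical
  haveI := Blocks.isPrime_of_isPModular hM
  have hself : IsPPart 2 (σ ^ l) (σ ^ l) := by
    have h := Blocks.isPPart_mul (p := 2) (Commute.one_right (σ ^ l)) (exists_orderOf D (pow_mem D.memσ l)) (by simp)
    rwa [mul_one] at h
  have hreg : IsPPart 2 ρ 1 := by
    have h := Blocks.isPPart_mul (p := 2) (Commute.one_left ρ) ⟨0, by simp⟩ hρ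
    rwa [one_mul] at h
  have h := Blocks.sum_block_eq_zero_of_not_isConj hM hreg hself
    (fun hc => pow_ne_one D h0 hl (isConj_one_right.mp hc)) (B := principalBlock M G) Blocks.isPBlock_principalBlock
  rw [← h]
  exact Finset.sum_congr rfl fun χ _ => by rw [rot_real D, mul_comm]

omit D in
/-- The multiplicity of the trivial character of `⟨σ⟩` minus that of a further one. -/
theorem exists_u (χ : IrrCharacter G) {N : ℕ} {s : G} (hs : s ^ N = 1) (hN : 0 < N) {ζ : ℂ}
    (hζ : ζ ^ N = 1) (j : ℕ) :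
    ∃ u : ℤ, (N : ℂ) * u = ∑ i ∈ Finset.range N, (χ : G → ℂ) (s ^ i) * (1 - (ζ ^ j) ^ i) := by
  obtain ⟨n, hn⟩ := exists_mult χ hs hN (c := 1) (one_pow N)
  obtain ⟨k, hk⟩ := exists_mult χ hs hN (c := ζ ^ j) (by rw [← pow_mul, mul_comm, pow_mul, hζ, one_pow])
  refine ⟨(n : ℤ) - k, ?_⟩
  simp only [one_pow, mul_one] at hn
  simp only [mul_sub, mul_one, Finset.sum_sub_distrib, hn, hk]
  push_cast; ring

variable {ζ : ℂ} (hζ : IsPrimitiveRoot ζ (2 * m))
include hζ

/-- The integral transform of the values on the rotations. -/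
noncomputable def uval (χ : IrrCharacter G) (j : ℕ) : ℤ :=
  (exists_u χ (pow_period D) (Nat.mul_pos two_pos (by have := two_le D; omega)) hζ.pow_eq_one j).choose

theorem uval_spec (χ : IrrCharacter G) (j : ℕ) : ((2 * m : ℕ) : ℂ) * uval D hζ χ j =
    ∑ i ∈ Finset.range (2 * m), (χ : G → ℂ) (σ ^ i) * (1 - (ζ ^ j) ^ i) :=
  (exists_u χ (pow_period D) (Nat.mul_pos two_pos (by have := two_le D; omega)) hζ.pow_eq_one j).choose_spec

theorem N_ne_zero : ((2 * m : ℕ) : ℂ) ≠ 0 := Nat.cast_ne_zero.mpr (by have := two_le D; omega)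

theorem zeta_pow (j : ℕ) : (ζ ^ j) ^ (2 * m) = 1 := by
  rw [← pow_mul, mul_comm, pow_mul, hζ.pow_eq_one, one_pow]

theorem zeta_pow_ne_one {j : ℕ} (h0 : 0 < j) (hj : j < 2 * m) : ζ ^ j ≠ 1 := fun e => by
  have := Nat.le_of_dvd h0 ((hζ.pow_eq_one_iff_dvd j).mp e); omega

theorem uval_zero (χ : IrrCharacter G) : uval D hζ χ 0 = 0 := by
  have h := uval_spec D hζ χ 0
  simp only [pow_zero, one_pow, sub_self, mul_zero, Finset.sum_const_zero, mul_eq_zero,
    Int.cast_eq_zero] at h
  exact h.resolve_left (N_ne_zero D hζ)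

theorem uval_symm (χ : IrrCharacter G) {j : ℕ} (hj : j ≤ 2 * m) :
    uval D hζ χ (2 * m - j) = uval D hζ χ j := by
  have h1 := congrArg conj (uval_spec D hζ χ j)
  rw [map_mul, map_natCast, map_intCast, map_sum] at h1
  have h2 := uval_spec D hζ χ (2 * m - j)
  apply Int.cast_injective (α := ℂ)
  refine mul_left_cancel₀ (N_ne_zero D hζ) ?_
  rw [h2, h1]
  refine Finset.sum_congr rfl fun i _ => ?_
  rw [map_mul, rot_real D, map_sub, map_one, map_pow, map_pow]
  congr 3
  have hnorm : ζ * conj ζ = 1 := by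
    rw [Complex.mul_conj', hζ.norm'_eq_one (by have := two_le D; omega)]; norm_num
  have e : ζ ^ (2 * m - j) * ζ ^ j = conj ζ ^ j * ζ ^ j := by
    rw [← pow_add, Nat.sub_add_cancel hj, hζ.pow_eq_one, ← mul_pow, mul_comm, hnorm, one_pow]
  exact mul_right_cancel₀ (pow_ne_zero _ (hζ.ne_zero (by have := two_le D; omega))) e

theorem uval_triv {j : ℕ} (h0 : 0 < j) (hj : j < 2 * m) :
    uval D hζ (Blocks.trivIrr G) j = 1 := by
  have h := uval_spec D hζ (Blocks.trivIrr G) j
  have e : ∀ g : G, ((Blocks.trivIrr G : IrrCharacter G) : G → ℂ) g = 1 := fun g => rfl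
  simp only [e, one_mul, Finset.sum_sub_distrib, geom_sum_root (zeta_pow D hζ j),
    if_neg (zeta_pow_ne_one D hζ h0 hj), Finset.sum_const, Finset.card_range, nsmul_eq_mul, mul_one, sub_zero] at h
  exact_mod_cast (mul_eq_left₀ (N_ne_zero D hζ)).mp h

/-- Inversion. -/
theorem value_rot (χ : IrrCharacter G) {l : ℕ} (h0 : 0 < l) (hl : l < 2 * m) :
    (χ : G → ℂ) (σ ^ l) = -∑ j ∈ Finset.range (2 * m), (uval D hζ χ j : ℂ) * (ζ ^ j) ^ l := by
  refine mul_left_cancel₀ (N_ne_zero D hζ) ?_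
  rw [mul_neg, Finset.mul_sum]
  simp only [← mul_assoc, uval_spec D hζ χ, Finset.sum_mul]
  rw [Finset.sum_comm, Finset.sum_congr rfl (g := fun i =>
    (χ : G → ℂ) (σ ^ i) * -(if i = 2 * m - l then ((2 * m : ℕ) : ℂ) else 0)) fun i hi => ?_]
  · simp only [mul_neg, Finset.sum_neg_distrib, neg_neg, mul_ite, mul_zero, Finset.sum_ite_eq',
      Finset.mem_range, show 2 * m - l < 2 * m from by omega, if_true, rot_sub D χ hl.le]
    ring
  · rw [Finset.mem_range] at hi
    simp only [mul_assoc, ← Finset.mul_sum]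
    congr 1
    simp only [sub_mul, one_mul, Finset.sum_sub_distrib]
    have e1 : ∀ j : ℕ, (ζ ^ j) ^ l = (ζ ^ l) ^ j := fun j => pow_right_comm ζ j l
    have e2 : ∀ j : ℕ, (ζ ^ j) ^ i * (ζ ^ l) ^ j = (ζ ^ (i + l)) ^ j := fun j => by
      rw [pow_add, mul_pow, pow_right_comm ζ j i]
    simp only [e1, e2]
    rw [geom_sum_root (zeta_pow D hζ l), geom_sum_root (zeta_pow D hζ (i + l)),
      if_neg (zeta_pow_ne_one D hζ h0 hl), zero_sub]
    refine congrArg Neg.neg (if_congr ?_ rfl rfl)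
    rw [hζ.pow_eq_one_iff_dvd]
    constructor
    · rintro ⟨c, hc⟩
      rcases c with _ | _ | c
      · omega
      · omega
      · have : 2 * m * (c + 1 + 1) = 2 * m * c + 4 * m := by ring
        omega
    · intro e; exact ⟨1, by omega⟩

/-- The inner products of the transforms over the principal block. -/
theorem uval_inner (hM : IsPModular 2 M) [DecidablePred (· ∈ principalBlock M G)] {i j : ℕ}
    (hi0 : 0 < i) (hi : i ≤ m) (hj0 : 0 < j) (hj : j ≤ m) :
    ∑ χ : IrrCharacter G with χ ∈ principalBlock M G, uval D hζ χ i * uval D hζ χ j =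
      2 + (if i + j = 2 * m then 1 else 0) + (if i = j then 1 else 0) := by
  classical
  have hm := two_le D
  set N := 2 * m with hNdef
  apply Int.cast_injective (α := ℂ)
  refine mul_left_cancel₀ (mul_ne_zero (N_ne_zero D hζ) (N_ne_zero D hζ)) ?_
  push_cast
  rw [Finset.mul_sum]
  rw [Finset.sum_congr rfl (g := fun χ : IrrCharacter G => (∑ l ∈ Finset.range N, (χ : G → ℂ) (σ ^ l) * (1 - (ζ ^ i) ^ l)) *
      ∑ l ∈ Finset.range N, (χ : G → ℂ) (σ ^ l) * (1 - (ζ ^ j) ^ l)) fun χ _ => by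
    rw [← uval_spec D hζ χ i, ← uval_spec D hζ χ j]; push_cast [hNdef]; ring]
  simp only [Finset.sum_mul_sum]
  rw [Finset.sum_comm]
  set b := ζ ^ j with hb
  set a := ζ ^ i with ha
  set c := b ^ (N - 1) with hc
  have hbc : b * c = 1 := by
    rw [hc, ← pow_succ', show N - 1 + 1 = N by omega]; exact zeta_pow D hζ j
  rw [Finset.sum_congr rfl (g := fun l => (N : ℂ) * ((1 - a ^ l) * ((1 - b ^ l) + (1 - c ^ l)))) fun l hl => ?_]
  · have hpa : a ^ N = 1 := zeta_pow D hζ i
    have hpb : b ^ N = 1 := zeta_pow D hζ j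
    have hpc : c ^ N = 1 := by rw [hc, ← pow_mul, mul_comm, pow_mul, hpb, one_pow]
    rw [← Finset.mul_sum, Finset.sum_congr rfl (g := fun l => 2 - 2 * a ^ l - b ^ l - c ^ l + (a * b) ^ l + (a * c) ^ l)
      fun l _ => by ring]
    simp only [Finset.sum_add_distrib, Finset.sum_sub_distrib, ← Finset.mul_sum, Finset.sum_const,
      Finset.card_range, nsmul_eq_mul]
    have hca : a ≠ 1 := zeta_pow_ne_one D hζ hi0 (by omega)
    have hcb : b ≠ 1 := zeta_pow_ne_one D hζ hj0 (by omega)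
    have hcc : c ≠ 1 := fun e => hcb (by rw [e, mul_one] at hbc; exact hbc)
    rw [geom_sum_root hpa, geom_sum_root hpb, geom_sum_root hpc,
      geom_sum_root (c := a * b) (by rw [mul_pow, hpa, hpb, one_mul]),
      geom_sum_root (c := a * c) (by rw [mul_pow, hpa, hpc, one_mul]), if_neg hca, if_neg hcb, if_neg hcc]
    have e1 : a * b = 1 ↔ i + j = N := by
      rw [ha, hb, ← pow_add, hζ.pow_eq_one_iff_dvd]
      exact ⟨fun h => le_antisymm (by omega) (Nat.le_of_dvd (by omega) h), fun h => h ▸ dvd_rfl⟩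
    have e2 : a * c = 1 ↔ i = j := by
      constructor
      · intro h
        have : a = b := by
          calc a = a * (b * c) := by rw [hbc, mul_one]
            _ = a * c * b := by ring
            _ = b := by rw [h, one_mul]
        exact hζ.pow_inj (by omega) (by omega) this
      · rintro rfl; exact hbc
    simp only [e1, e2]
    rw [show ((N : ℕ) : ℂ) = 2 * (m : ℂ) by simp [hNdef]]
    split_ifs <;> push_cast <;> ring
  · rw [Finset.mem_range] at hl
    rw [Finset.sum_comm]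
    rcases Nat.eq_zero_or_pos l with rfl | hl0
    · simp
    rw [Finset.sum_congr rfl (g := fun l' => (1 - a ^ l) * ((N : ℂ) *
      ((if l = l' then 1 - b ^ l' else 0) + (if N - l = l' then 1 - b ^ l' else 0)))) fun l' hl' => ?_]
    · rw [← Finset.mul_sum, ← Finset.mul_sum, Finset.sum_add_distrib, Finset.sum_ite_eq, Finset.sum_ite_eq,
        if_pos (Finset.mem_range.mpr hl), if_pos (Finset.mem_range.mpr (by omega : N - l < N))]
      have e : b ^ (N - l) = c ^ l := by
        have h1 : b ^ (N - l) * b ^ l = c ^ l * b ^ l := by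
          rw [← pow_add, Nat.sub_add_cancel hl.le, ← mul_pow, mul_comm c, hbc, one_pow]
          exact zeta_pow D hζ j
        exact mul_right_cancel₀ (pow_ne_zero _ (left_ne_zero_of_mul_eq_one hbc)) h1
      rw [e]; ring
    · rw [Finset.mem_range] at hl'
      rcases Nat.eq_zero_or_pos l' with rfl | hl0'
      · simp
      rw [Finset.sum_congr rfl (g := fun χ : IrrCharacter G =>
        (1 - a ^ l) * (1 - b ^ l') * ((χ : G → ℂ) (σ ^ l) * (χ : G → ℂ) (σ ^ l'))) fun χ _ => by ring,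
        ← Finset.mul_sum, column_orth D hM hl0 hl hl0' hl']
      simp only [show (l + l' = 2 * m) ↔ (N - l = l') from by omega]
      rw [show ((N : ℕ) : ℂ) = 2 * m by simp [hNdef]]
      split_ifs <;> ring

theorem uval_regular (hM : IsPModular 2 M) [DecidablePred (· ∈ principalBlock M G)] (j : ℕ) {ρ : G}
    (hρ : ¬ 2 ∣ orderOf ρ) :
    ∑ χ : IrrCharacter G with χ ∈ principalBlock M G, (uval D hζ χ j : ℂ) * (χ : G → ℂ) ρ = 0 := by
  refine mul_left_cancel₀ (N_ne_zero D hζ) ?_
  rw [mul_zero, Finset.mul_sum]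
  simp only [← mul_assoc, uval_spec D hζ, Finset.sum_mul]
  rw [Finset.sum_comm]
  refine Finset.sum_eq_zero fun l hl => ?_
  rcases Nat.eq_zero_or_pos l with rfl | hl0
  · simp
  rw [Finset.sum_congr rfl (g := fun χ : IrrCharacter G => (1 - (ζ ^ j) ^ l) * ((χ : G → ℂ) (σ ^ l) * (χ : G → ℂ) ρ))
    fun χ _ => by ring, ← Finset.mul_sum, column_regular D hM hl0 (Finset.mem_range.mp hl) hρ, mul_zero]

theorem sum_uval (χ : IrrCharacter G) :
    ∃ k : ℕ, (charDegree (χ : G → ℂ) : ℤ) + ∑ j ∈ Finset.range (2 * m), uval D hζ χ j = 2 * m * k := by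
  obtain ⟨n, hn⟩ := exists_mult χ (pow_period D) (by have := two_le D; omega) (c := 1) (one_pow _)
  refine ⟨n, ?_⟩
  apply Int.cast_injective (α := ℂ)
  refine mul_left_cancel₀ (N_ne_zero D hζ) ?_
  push_cast
  rw [mul_add, Finset.mul_sum]
  have h := fun j => uval_spec D hζ χ j
  push_cast at h hn
  simp only [h]
  rw [Finset.sum_comm]
  simp only [← Finset.mul_sum, Finset.sum_sub_distrib, Finset.sum_const, Finset.card_range,
    nsmul_eq_mul, mul_one]
  rw [Finset.sum_congr rfl (g := fun i => (χ : G → ℂ) (σ ^ i) * ((2 * m : ℕ) : ℂ) -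
      if i = 0 then (χ : G → ℂ) (σ ^ i) * ((2 * m : ℕ) : ℂ) else 0) fun i hi => ?_]
  · simp only [one_pow, mul_one] at hn
    rw [Finset.sum_sub_distrib, ← Finset.sum_mul, hn, Finset.sum_ite_eq',
      if_pos (Finset.mem_range.mpr (by have := two_le D; omega)), pow_zero, (Blocks.irr_degree_eq χ).1]
    push_cast; ring
  · rw [Finset.sum_congr rfl (g := fun j => (ζ ^ i) ^ j) fun j _ => by rw [← pow_mul, ← pow_mul, mul_comm],
      geom_sum_root (zeta_pow D hζ i)]
    by_cases h0 : i = 0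
    · subst h0; simp
    · rw [if_neg (zeta_pow_ne_one D hζ (Nat.pos_of_ne_zero h0) (Finset.mem_range.mp hi)), if_neg h0]
      push_cast; ring

end CfsgLib.DihBlock
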