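import Cfsg.Agent.Lib.DihBlock.Structure

/-!
# The principal 2-block at a dihedral Sylow 2-subgroup: there are no other members
-/

set_option autoImplicit false
set_option linter.unusedSectionVars false
set_option linter.style.haveILetI false

namespace CfsgLib.DihBlock

open Cfsg CfsgLib
open scoped ComplexConjugate CfsgLib.Char

variable {G : Type*} [Group G] [Fintype G]
variable {P : Sylow 2 G} {σ τ : G} {m : ℕ} {M : Ideal AlgInt} {ζ : ℂ}

namespace Rotations

variable (R : Rotations M σ m ζ)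

theorem val_z_a (D : Data P σ τ m) : (R.a : G → ℂ) (σ ^ m) = R.δ :=
  R.val_a m (by have := two_le D; omega) (by have := two_le D; omega)

theorem val_z_c (D : Data P σ τ m) : (R.c : G → ℂ) (σ ^ m) = -R.δc := by
  rw [R.val_c m (by have := two_le D; omega) (by have := two_le D; omega), pow_succ,
    (even_iff_two_dvd.mpr (even D)).neg_one_pow]
  ring

theorem val_z_e (D : Data P σ τ m) : (R.e : G → ℂ) (σ ^ m) = -R.δe := by
  rw [R.val_e m (by have := two_le D; omega) (by have := two_le D; omega), pow_succ,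
    (even_iff_two_dvd.mpr (even D)).neg_one_pow]
  ring

/-- Outside the four named characters of odd degree, members vanishing on the rotations vanish at
the reflection. -/
theorem tau_zero (D : Data P σ τ m) (hM : IsPModular 2 M) {χ : IrrCharacter G}
    (hχ : χ ∈ principalBlock M G) (hz : (χ : G → ℂ) (σ ^ m) = 0) (ht : χ ≠ Blocks.trivIrr G)
    (ha : χ ≠ R.a) (hc : χ ≠ R.c) (he : χ ≠ R.e) : (χ : G → ℂ) τ = 0 := by
  classical
  haveI := Blocks.isPrime_of_isPModular hM
  by_cases hconj : IsConj (σ ^ m) τ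
  · rw [← Blocks.IsClassFunction.eq_of_isConj (Blocks.irr_classFunction χ) hconj, hz]
  obtain ⟨Q, hQ, hnpc⟩ := tau_centralizer D hconj
  choose k hk hpar using fun ψ : IrrCharacter G => exists_value_involution (χ := ψ) D.sqτ
  have hsum : ∑ ψ : IrrCharacter G with ψ ∈ principalBlock M G, k ψ * k ψ = 4 := by
    have h := norm_column hM (exists_orderOf D D.memτ) hnpc Q
    rw [hQ] at h
    simp only [hk, map_intCast] at h
    exact_mod_cast h
  have hodd : ∀ ψ : IrrCharacter G, ∀ s : ℤ, (s = 1 ∨ s = -1) → (ψ : G → ℂ) (σ ^ m) = s → 1 ≤ k ψ * k ψ := by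
    intro ψ s hs hψ
    obtain ⟨w, hw, hwp⟩ := exists_value_involution (χ := ψ) (z_mul_self D)
    rw [hψ] at hw
    have hws : w = s := by exact_mod_cast hw.symm
    have := hpar ψ
    have : k ψ ≠ 0 := by omega
    have : 0 < k ψ * k ψ := mul_self_pos.mpr this
    omega
  have h1 : (1 : ℤ) ≤ k (Blocks.trivIrr G) * k (Blocks.trivIrr G) :=
    hodd _ 1 (Or.inl rfl) (by rw [Int.cast_one]; rfl)
  have h2 := hodd R.a R.δ R.signδ (R.val_z_a D)
  have h3 := hodd R.c (-R.δc) (by rcases R.signc with h | h <;> simp [h]) (by rw [R.val_z_c D]; push_cast; ring)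
  have h4 := hodd R.e (-R.δe) (by rcases R.signe with h | h <;> simp [h]) (by rw [R.val_z_e D]; push_cast; ring)
  have hle : ∑ ψ ∈ ({χ, Blocks.trivIrr G, R.a, R.c, R.e} : Finset (IrrCharacter G)), k ψ * k ψ ≤ 4 := by
    rw [← hsum]
    refine Finset.sum_le_sum_of_subset_of_nonneg ?_ fun ψ _ _ => mul_self_nonneg _
    intro ψ hψ
    simp only [Finset.mem_insert, Finset.mem_singleton] at hψ
    rcases hψ with rfl | rfl | rfl | rfl | rfl <;>
      refine Finset.mem_filter.mpr ⟨Finset.mem_univ _, ?_⟩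
    exacts [hχ, Blocks.mem_blockOf_self (Blocks.trivIrr G), R.mem_a, R.mem_c, R.mem_e]
  rw [Finset.sum_insert (by simp [ht, ha, hc, he]),
    Finset.sum_insert (by simp [R.ne_a.symm, R.ne_c.symm, R.ne_e.symm]),
    Finset.sum_insert (by simp [R.ne_ca.symm, R.ne_ea.symm]), Finset.sum_pair R.ne_ce] at hle
  have h0 : k χ * k χ = 0 := le_antisymm (by omega) (mul_self_nonneg _)
  rw [hk χ, mul_self_eq_zero.mp h0, Int.cast_zero]

theorem swapped (D : Data P σ τ m) (hM : IsPModular 2 M) {χ : IrrCharacter G}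
    (hχ : χ ∈ principalBlock M G) (hz : (χ : G → ℂ) (σ ^ m) = 0) (ht : χ ≠ Blocks.trivIrr G)
    (ha : χ ≠ R.a) (hc : χ ≠ R.c) (he : χ ≠ R.e) : (χ : G → ℂ) (σ * τ) = 0 :=
  R.tau_zero (swap D) hM hχ hz ht ha hc he

/-- The named characters exhaust the principal block. -/
theorem cases (D : Data P σ τ m) (hM : IsPModular 2 M) {χ : IrrCharacter G}
    (hχ : χ ∈ principalBlock M G) : χ = Blocks.trivIrr G ∨ χ = R.a ∨ χ = R.c ∨ χ = R.e ∨
      ∃ j, 0 < j ∧ j < m ∧ χ = R.b j := by
  classical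
  haveI := Blocks.isPrime_of_isPModular hM
  haveI := Fact.mk Nat.prime_two
  by_contra hcon
  push Not at hcon
  obtain ⟨ht, ha, hc, he, hb⟩ := hcon
  have hrot := R.val_other χ hχ ht ha hc he hb
  have hm := two_le D
  have hz := hrot m (by omega) (by omega)
  -- the character vanishes on the 2-singular elements
  have hvan : ∀ g : G, 2 ∣ orderOf g → (χ : G → ℂ) g = 0 := by
    intro g hg
    obtain ⟨x, ⟨y, hxy, hcom, hxo, hy⟩, -⟩ := Blocks.exists_isPPart Nat.prime_two g
    obtain ⟨T, hT⟩ := (Transfer.isPGroup_zpowers (p := 2) hxo).exists_le_sylow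
    obtain ⟨q, hq'⟩ := MulAction.exists_smul_eq G T P
    have hgP : q * x * q⁻¹ ∈ (P : Subgroup G) := by
      rw [← hq']
      exact Subgroup.smul_mem_pointwise_smul _ (MulAut.conj q) _ (hT (Subgroup.mem_zpowers _))
    have hne : x ≠ 1 := fun h => hy (by rw [h, one_mul] at hxy; rw [hxy]; exact hg)
    -- a representative with a normal complement
    have hsplit : ∀ x' : G, IsConj x x' → (∃ k, orderOf x' = 2 ^ k) →
        HasNormalPComplement 2 (Subgroup.centralizer ({x'} : Set G)) → (χ : G → ℂ) g = (χ : G → ℂ) x' := by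
      intro x' hx' hxo' hnpc
      obtain ⟨d, hd⟩ := isConj_iff.mp hx'
      have e1 := value_mul_regular hM hxo' hnpc hχ (v := d * y * d⁻¹)
        (hd ▸ hcom.map (MulAut.conj d).toMonoidHom)
        (by rw [Transfer.orderOf_conj]; exact hy)
      rw [← e1, ← hd, show d * x * d⁻¹ * (d * y * d⁻¹) = d * (x * y) * d⁻¹ by group, hxy]
      exact (Blocks.irr_classFunction χ g d).symm
    obtain ⟨i, hi | hi⟩ := D.cases _ hgP
    · have hconj : IsConj x (σ ^ i) := isConj_iff.mpr ⟨q, hi⟩
      have hi1 : σ ^ i ≠ 1 := fun h => hne (conj_eq_one_iff.mp (hi.trans h))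
      have hnpc : HasNormalPComplement 2 (Subgroup.centralizer ({σ ^ i} : Set G)) := by
        by_cases h2 : σ ^ i * σ ^ i = 1
        · rw [eq_z_of_sq D (pow_mem (Subgroup.mem_zpowers σ) i) h2 hi1]
          obtain ⟨Q, -, -, h⟩ := z_centralizer D; exact h
        · obtain ⟨Q, -, h⟩ := rot_centralizer D (pow_mem (Subgroup.mem_zpowers σ) i) h2; exact h
      rw [hsplit _ hconj (exists_orderOf D (pow_mem D.memσ i)) hnpc, ← pow_mod_orderOf σ i, D.ordσ]
      refine hrot _ (Nat.pos_of_ne_zero fun h => hi1 ?_) (Nat.mod_lt _ (by omega))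
      rw [← pow_mod_orderOf σ i, D.ordσ, h, pow_zero]
    · have htau : ∀ (τ' : G) (D' : Data P σ τ' m), IsConj x τ' → (χ : G → ℂ) g = 0 := by
        intro τ' D' h
        by_cases hfu : IsConj (σ ^ m) τ'
        · obtain ⟨Q, -, -, hnpc⟩ := z_centralizer D
          rw [hsplit _ (h.trans hfu.symm) (exists_orderOf D (pow_mem D.memσ m)) hnpc, hz]
        · obtain ⟨Q, -, hnpc⟩ := tau_centralizer D' hfu
          rw [hsplit _ h (exists_orderOf D D'.memτ) hnpc]
          exact R.tau_zero D' hM hχ hz ht ha hc he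
      obtain ⟨j, hj | hj⟩ := refl_conj D i
      · refine htau τ D (isConj_iff.mpr ⟨(σ ^ j)⁻¹ * q, ?_⟩)
        rw [show (σ ^ j)⁻¹ * q * x * ((σ ^ j)⁻¹ * q)⁻¹ = (σ ^ j)⁻¹ * (q * x * q⁻¹) * σ ^ j by group, hi, hj]
        group
      · refine htau (σ * τ) (swap D) (isConj_iff.mpr ⟨(σ ^ j)⁻¹ * q, ?_⟩)
        rw [show (σ ^ j)⁻¹ * q * x * ((σ ^ j)⁻¹ * q)⁻¹ = (σ ^ j)⁻¹ * (q * x * q⁻¹) * σ ^ j by group, hi, hj]
        group
  -- hence it forms a block
  have hU : Blocks.IsBlockUnion M ({χ} : Set (IrrCharacter G)) := by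
    refine Blocks.isBlockUnion_of_regPart_orthogonal hM ?_
    intro χ' hχ' ψ hψ
    rw [Set.mem_singleton_iff.mp hχ']
    have hreg : Blocks.regPart 2 (χ : G → ℂ) = (χ : G → ℂ) := funext fun g => by
      by_cases hg : IsPRegular 2 g
      · rw [Blocks.regPart_of_regular hg]
      · rw [Blocks.regPart_of_singular hg, hvan g (not_not.mp hg)]
    rw [hreg, Char.classInner_coe, if_neg (fun h => hψ (Set.mem_singleton_iff.mpr h.symm))]
  have hT := hU χ rfl (Blocks.trivIrr G)
    (Blocks.mem_blockOf_iff.mp (Blocks.blockOf_eq_of_sameBlock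
      (Blocks.mem_blockOf_iff.mp hχ) ▸ Blocks.mem_blockOf_self (Blocks.trivIrr G)))
  exact ht (Set.mem_singleton_iff.mp hT).symm

include R in
theorem card_block (D : Data P σ τ m) (hM : IsPModular 2 M) :
    Nat.card (principalBlock M G) = 3 + m := by
  classical
  haveI := Blocks.isPrime_of_isPModular hM
  have hm := two_le D
  set S : Finset (IrrCharacter G) :=
    insert (Blocks.trivIrr G) (insert R.a (insert R.c (insert R.e ((Finset.Ico 1 m).image R.b)))) with hS
  have hset : principalBlock M G = (S : Set (IrrCharacter G)) := by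
    ext χ
    simp only [hS, Finset.coe_insert, Finset.coe_image, Finset.coe_Ico, Set.mem_insert_iff, Set.mem_image,
      Set.mem_Ico]
    constructor
    · intro h
      rcases R.cases D hM h with h | h | h | h | ⟨j, hj, hjm, h⟩
      · exact Or.inl h
      · exact Or.inr (Or.inl h)
      · exact Or.inr (Or.inr (Or.inl h))
      · exact Or.inr (Or.inr (Or.inr (Or.inl h)))
      · exact Or.inr (Or.inr (Or.inr (Or.inr ⟨j, ⟨hj, hjm⟩, h.symm⟩)))
    · rintro (rfl | rfl | rfl | rfl | ⟨j, ⟨hj, hjm⟩, rfl⟩)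
      exacts [Blocks.mem_blockOf_self (Blocks.trivIrr G), R.mem_a, R.mem_c, R.mem_e, R.mem_b j hj hjm]
  have hnb : ∀ x, (∀ j, 0 < j → j < m → R.b j ≠ x) → x ∉ (Finset.Ico 1 m).image R.b := by
    intro x hx h
    obtain ⟨j, hj, rfl⟩ := Finset.mem_image.mp h
    rw [Finset.mem_Ico] at hj
    exact hx j hj.1 hj.2 rfl
  rw [hset, Nat.card_coe_set_eq, Set.ncard_coe_finset, hS, Finset.card_insert_of_notMem,
    Finset.card_insert_of_notMem, Finset.card_insert_of_notMem, Finset.card_insert_of_notMem,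
    Finset.card_image_of_injOn, Nat.card_Ico]
  · omega
  · intro i hi j hj h
    simp only [Finset.coe_Ico, Set.mem_Ico] at hi hj
    exact R.inj i j hi.1 hi.2 hj.1 hj.2 h
  · exact hnb _ fun j hj hjm => (R.ne_b j hj hjm).2.2.2
  · simp only [Finset.mem_insert, not_or]
    exact ⟨R.ne_ce, hnb _ fun j hj hjm => (R.ne_b j hj hjm).2.2.1⟩
  · simp only [Finset.mem_insert, not_or]
    exact ⟨R.ne_ca.symm, R.ne_ea.symm, hnb _ fun j hj hjm => (R.ne_b j hj hjm).2.1⟩
  · simp only [Finset.mem_insert, not_or]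
    exact ⟨R.ne_a.symm, R.ne_c.symm, R.ne_e.symm, hnb _ fun j hj hjm => (R.ne_b j hj hjm).1⟩

end Rotations

end CfsgLib.DihBlock
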