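import Cfsg.Agent.Lib.DihBlock.Columns
import Cfsg.Agent.Lib.Char.Counting

/-!
# Pairs of involutions whose product lies in a coset of the core of `C(z)`
-/

set_option autoImplicit false
set_option linter.unusedSectionVars false
set_option linter.style.haveILetI false

namespace CfsgLib.DihBlock

open Cfsg CfsgLib
open scoped ComplexConjugate CfsgLib.Char

variable {G : Type*} [Group G] [Fintype G]
variable {P : Sylow 2 G} {σ τ : G} {m : ℕ}

/-- The centralizer of `z`. -/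
abbrev cz (σ : G) (m : ℕ) : Subgroup G := Subgroup.centralizer ({σ ^ m} : Set G)

/-- The odd core of the centralizer of `z`. -/
noncomputable def core (σ : G) (m : ℕ) : Subgroup G :=
  (pPrimeCore 2 (cz σ m)).map (cz σ m).subtype

/-- The involutions in a coset of the core. -/
noncomputable def invs (σ : G) (m : ℕ) (p : G) : Finset G :=
  open Classical in Finset.univ.filter fun u => orderOf u = 2 ∧ u * p⁻¹ ∈ core σ m

theorem mem_invs {p u : G} : u ∈ invs σ m p ↔ orderOf u = 2 ∧ u * p⁻¹ ∈ core σ m := by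
  simp [invs]

theorem core_le : core σ m ≤ cz σ m := Subgroup.map_subtype_le _

theorem core_coprime : (Nat.card (core σ m)).Coprime 2 := by
  haveI := Fact.mk Nat.prime_two
  rw [core, Subgroup.card_map_of_injective (cz σ m).subtype_injective]
  exact Transfer.pPrimeCore_coprime 2

theorem core_regular {x : G} (hx : x ∈ core σ m) : ¬ 2 ∣ orderOf x :=
  (Nat.prime_two.coprime_iff_not_dvd).mp (Transfer.coprime_orderOf_of_mem core_coprime hx).symm

theorem core_conj {c x : G} (hc : c ∈ cz σ m) (hx : x ∈ core σ m) : c * x * c⁻¹ ∈ core σ m := by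
  obtain ⟨y, hy, rfl⟩ := hx
  exact ⟨⟨c, hc⟩ * y * ⟨c, hc⟩⁻¹, (Transfer.pPrimeCore_normal 2 (cz σ m)).conj_mem y hy _, rfl⟩

variable (D : Data P σ τ m)
include D

theorem mem_core {x : G} (hx : x ∈ cz σ m) (hr : ¬ 2 ∣ orderOf x) : x ∈ core σ m := by
  haveI := Fact.mk Nat.prime_two
  obtain ⟨Q, -, -, hnpc⟩ := z_centralizer D
  refine ⟨⟨x, hx⟩, ?_, rfl⟩
  show _ ∈ pPrimeCore 2 (cz σ m)
  rw [Transfer.pPrimeCore_eq_pResidual hnpc]
  refine Transfer.mem_pResidual_of_coprime ((Nat.prime_two.coprime_iff_not_dvd).mpr ?_).symm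
  rwa [← Subgroup.orderOf_coe]

theorem eq_one_of_core {x : G} (hx : x ∈ (P : Subgroup G)) (hx' : x ∈ core σ m) : x = 1 := by
  haveI := Fact.mk Nat.prime_two
  exact PSolvable.eq_one_of_mem_of_mem P.2 core_coprime hx hx'

theorem fact_cz {x : G} (hx : x ∈ cz σ m) : ∃ w ∈ core σ m, ∃ p ∈ (P : Subgroup G), x = w * p := by
  haveI := Fact.mk Nat.prime_two
  obtain ⟨Q, -, hQ, hnpc⟩ := z_centralizer D
  haveI := Transfer.pResidual_normal 2 (cz σ m)
  have htop : (⟨x, hx⟩ : cz σ m) ∈ Cfsg.pResidual 2 (cz σ m) ⊔ (Q : Subgroup (cz σ m)) := by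
    rw [sup_comm, Transfer.sylow_sup_pResidual]; trivial
  obtain ⟨w, hw, q, hq, hwq⟩ := Subgroup.mem_sup_of_normal_left.mp htop
  rw [← Transfer.pPrimeCore_eq_pResidual hnpc] at hw
  exact ⟨w, ⟨w, hw, rfl⟩, q, hQ ▸ Subgroup.mem_map_of_mem _ hq, (congrArg Subtype.val hwq).symm⟩

theorem fact_unique {w w' p p' : G} (hw : w ∈ core σ m) (hw' : w' ∈ core σ m) (hp : p ∈ (P : Subgroup G))
    (hp' : p' ∈ (P : Subgroup G)) (h : w * p = w' * p') : w = w' ∧ p = p' := by
  have h1 : w'⁻¹ * w = p' * p⁻¹ := by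
    rw [eq_mul_inv_iff_mul_eq, mul_assoc, h, inv_mul_cancel_left]
  have h2 : p' * p⁻¹ = 1 := eq_one_of_core D (mul_mem hp' (inv_mem hp)) (h1 ▸ mul_mem (inv_mem hw') hw)
  have h3 : p' = p := mul_inv_eq_one.mp h2
  exact ⟨mul_right_cancel (h3 ▸ h), h3.symm⟩

theorem card_cz : Nat.card (cz σ m) = Nat.card (core σ m) * (4 * m) := by
  have hPC := sylow_le_centralizer_z D
  let f : core σ m × (P : Subgroup G) → cz σ m := fun v =>
    ⟨(v.1 : G) * v.2, mul_mem (core_le v.1.2) (hPC v.2.2)⟩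
  have hf : Function.Bijective f := by
    refine ⟨fun v v' e => ?_, fun x => ?_⟩
    · obtain ⟨h1, h2⟩ := fact_unique D v.1.2 v'.1.2 v.2.2 v'.2.2 (congrArg Subtype.val e)
      exact Prod.ext (Subtype.ext h1) (Subtype.ext h2)
    · obtain ⟨w, hw, p, hp, e⟩ := fact_cz D x.2
      exact ⟨(⟨w, hw⟩, ⟨p, hp⟩), Subtype.ext e.symm⟩
  rw [← Nat.card_congr (Equiv.ofBijective f hf), Nat.card_prod, D.card]

/-- Conjugation carries the involutions of one coset to those of another. -/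
theorem invs_conj {c : G} (hc : c ∈ cz σ m) (p : G) :
    (invs σ m (c * p * c⁻¹)).card = (invs σ m p).card := by
  refine (Finset.card_bij (fun u _ => c * u * c⁻¹) (fun u hu => ?_) (fun u _ v _ e => ?_) (fun v hv => ?_)).symm
  · obtain ⟨h1, h2⟩ := mem_invs.mp hu
    refine mem_invs.mpr ⟨Invol.conj_orderOf_two h1 c, ?_⟩
    rw [show c * u * c⁻¹ * (c * p * c⁻¹)⁻¹ = c * (u * p⁻¹) * c⁻¹ by group]
    exact core_conj hc h2
  · exact mul_left_cancel (mul_right_cancel e)
  · obtain ⟨h1, h2⟩ := mem_invs.mp hv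
    refine ⟨c⁻¹ * v * c, mem_invs.mpr ⟨?_, ?_⟩, by group⟩
    · simpa using Invol.conj_orderOf_two h1 c⁻¹
    · rw [show c⁻¹ * v * c * p⁻¹ = c⁻¹ * (v * (c * p * c⁻¹)⁻¹) * c⁻¹⁻¹ by group]
      exact core_conj (inv_mem hc) h2

theorem invs_parity (i : ℕ) :
    (invs σ m (σ ^ i * τ)).card = if Even i then (invs σ m τ).card else (invs σ m (σ * τ)).card := by
  have hσc : ∀ j : ℕ, σ ^ j ∈ cz σ m := fun j => sylow_le_centralizer_z D (pow_mem D.memσ j)
  have key : ∀ j c : ℕ, σ ^ j * (σ ^ c * τ) * (σ ^ j)⁻¹ = σ ^ (j + c + j) * τ := by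
    intro j c
    have e : τ * (σ ^ j)⁻¹ = σ ^ j * τ := by
      rw [← mul_right_inj (σ ^ j)⁻¹, ← mul_assoc, ← tau_mul_pow D, mul_inv_cancel_right,
        ← mul_assoc, inv_mul_cancel, one_mul]
    rw [mul_assoc, mul_assoc, e, ← mul_assoc, ← mul_assoc, ← pow_add, ← pow_add]
  split_ifs with h
  · obtain ⟨j, rfl⟩ := h
    rw [show σ ^ (j + j) * τ = σ ^ j * τ * (σ ^ j)⁻¹ by
      rw [show σ ^ j * τ * (σ ^ j)⁻¹ = σ ^ j * (σ ^ 0 * τ) * (σ ^ j)⁻¹ by simp, key, add_zero]]
    exact invs_conj D (hσc j) τ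
  · obtain ⟨j, rfl⟩ := Nat.not_even_iff_odd.mp h
    rw [show σ ^ (2 * j + 1) * τ = σ ^ j * (σ * τ) * (σ ^ j)⁻¹ by
      rw [show σ * τ = σ ^ 1 * τ by simp, key]; congr 2; ring]
    exact invs_conj D (hσc j) (σ * τ)

/-- The involutions of a reflection coset and the centralizer of the reflection. -/
theorem invs_card (hp : τ ∈ (P : Subgroup G)) :
    (invs σ m τ).card * Nat.card ↥(cz σ m ⊓ Subgroup.centralizer ({τ} : Set G)) = 4 * Nat.card (core σ m) := by
  classical
  haveI := Fact.mk Nat.prime_two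
  haveI : (pPrimeCore 2 (cz σ m)).Normal := Transfer.pPrimeCore_normal 2 _
  set C := cz σ m
  have hτC : τ ∈ C := sylow_le_centralizer_z D hp
  have hτ2 := orderOf_tau D
  set F := core σ m ⊓ Subgroup.centralizer ({τ} : Set G)
  have hF : Nat.card (core σ m) = (invs σ m τ).card * Nat.card F := by
    have hmap : ∀ o ∈ (Finset.univ : Finset (core σ m)), (o : G) * τ * (o : G)⁻¹ ∈ invs σ m τ := by
      intro o _
      refine mem_invs.mpr ⟨Invol.conj_orderOf_two hτ2 _, ?_⟩
      rw [show (o : G) * τ * (o : G)⁻¹ * τ⁻¹ = o * (τ * (o : G)⁻¹ * τ⁻¹) by group]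
      exact mul_mem o.2 (core_conj hτC (inv_mem o.2))
    rw [Nat.card_eq_fintype_card, ← Finset.card_univ, Finset.card_eq_sum_card_fiberwise hmap,
      Finset.sum_congr rfl (g := fun _ => Nat.card F) fun u hu => ?_, Finset.sum_const, smul_eq_mul]
    obtain ⟨hu2, huO⟩ := mem_invs.mp hu
    have huC : u ∈ C := by simpa using mul_mem (core_le huO) hτC
    obtain ⟨⟨c, hc⟩, hcO, hcu⟩ := ZStar.exists_conj_eq_of_mul_mem (G := C) (K := pPrimeCore 2 C)
      (Transfer.pPrimeCore_coprime 2) (x := ⟨u, huC⟩) (y := ⟨τ, hτC⟩)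
      (Transfer.isPGroup_zpowers ⟨1, by rw [← Subgroup.orderOf_coe]; exact hu2⟩)
      (Transfer.isPGroup_zpowers ⟨1, by rw [← Subgroup.orderOf_coe]; exact hτ2⟩)
      (by
        obtain ⟨w, hw, hwe⟩ := huO
        have : (⟨τ, hτC⟩ : C) * (⟨u, huC⟩ : C)⁻¹ = w⁻¹ := Subtype.ext (by
          show τ * u⁻¹ = (w : G)⁻¹
          rw [show (w : G) = u * τ⁻¹ from hwe]; group)
        rw [this]; exact inv_mem hw)
    have hcO' : c ∈ core σ m := ⟨⟨c, hc⟩, hcO, rfl⟩
    have hcu' : c * τ * c⁻¹ = u := congrArg Subtype.val hcu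
    rw [← Fintype.card_subtype, ← Nat.card_eq_fintype_card]
    refine Nat.card_congr
      { toFun := fun o => ⟨c⁻¹ * ((o : core σ m) : G), Subgroup.mem_inf.mpr
          ⟨(core σ m).mul_mem ((core σ m).inv_mem hcO') (o : core σ m).2,
          Subgroup.mem_centralizer_singleton_iff.mpr ?_⟩⟩
        invFun := fun f => ⟨⟨c * (f : G), mul_mem hcO' f.2.1⟩, ?_⟩
        left_inv := fun o => by ext; simp
        right_inv := fun f => by ext; simp }
    · have ho : ((o : core σ m) : G) * τ * ((o : core σ m) : G)⁻¹ = c * τ * c⁻¹ := o.2.trans hcu'.symm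
      refine mul_inv_eq_iff_eq_mul.mp ?_
      calc c⁻¹ * ((o : core σ m) : G) * τ * (c⁻¹ * ((o : core σ m) : G))⁻¹
          = c⁻¹ * (((o : core σ m) : G) * τ * ((o : core σ m) : G)⁻¹) * c := by group
        _ = τ := by rw [ho]; group
    · show c * (f : G) * τ * (c * (f : G))⁻¹ = u
      rw [← hcu', mul_assoc c, Subgroup.mem_centralizer_singleton_iff.mp f.2.2]
      group
  have h4 : Nat.card ↥(C ⊓ Subgroup.centralizer ({τ} : Set G)) =
      Nat.card F * Nat.card ↥((P : Subgroup G) ⊓ Subgroup.centralizer ({τ} : Set G)) := by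
    let f : F × ↥((P : Subgroup G) ⊓ Subgroup.centralizer ({τ} : Set G)) →
        ↥(C ⊓ Subgroup.centralizer ({τ} : Set G)) := fun v => ⟨(v.1 : G) * v.2,
      mul_mem (core_le v.1.2.1) (sylow_le_centralizer_z D v.2.2.1), mul_mem v.1.2.2 v.2.2.2⟩
    have hf : Function.Bijective f := by
      refine ⟨fun v v' e => ?_, fun x => ?_⟩
      · obtain ⟨h1, h2⟩ := fact_unique D v.1.2.1 v'.1.2.1 v.2.2.1 v'.2.2.1 (congrArg Subtype.val e)
        exact Prod.ext (Subtype.ext h1) (Subtype.ext h2)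
      · obtain ⟨w, hw, q, hq, e⟩ := fact_cz D x.2.1
        have hxτ := Subgroup.mem_centralizer_singleton_iff.mp x.2.2
        have e' : w * (q * τ) = τ * w * τ⁻¹ * (τ * q) := by
          rw [← mul_assoc w, ← e, hxτ, e]; group
        obtain ⟨h1, h2⟩ := fact_unique D hw (core_conj hτC hw) (mul_mem hq hp) (mul_mem hp hq) e'
        have hw' : w * τ = τ * w := eq_mul_inv_iff_mul_eq.mp h1
        exact ⟨(⟨w, hw, Subgroup.mem_centralizer_singleton_iff.mpr hw'⟩,
          ⟨q, hq, Subgroup.mem_centralizer_singleton_iff.mpr h2⟩), Subtype.ext e.symm⟩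
    rw [← Nat.card_congr (Equiv.ofBijective f hf), Nat.card_prod]
  have h40 := card_centralizer_refl D 0
  rw [pow_zero, one_mul] at h40
  rw [h4, h40, hF]; ring

theorem inverter_mem {l : ℕ} (h0 : 0 < l) (hl : l < 2 * m) {u v : G} (hu : orderOf u = 2) (hv : orderOf v = 2)
    (h : u * v * (σ ^ l)⁻¹ ∈ core σ m) : u ∈ cz σ m := by
  classical
  haveI := Fact.mk Nat.prime_two
  haveI : (pPrimeCore 2 (cz σ m)).Normal := Transfer.pPrimeCore_normal 2 _
  set g := u * v with hg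
  have hσl : σ ^ l ∈ cz σ m := sylow_le_centralizer_z D (pow_mem D.memσ l)
  have hgC : g ∈ cz σ m := by simpa using mul_mem (core_le h) hσl
  set π := QuotientGroup.mk' (pPrimeCore 2 (cz σ m))
  have hcore : ∀ x : cz σ m, π x = 1 ↔ (x : G) ∈ core σ m := fun x => by
    rw [QuotientGroup.mk'_apply, QuotientGroup.eq_one_iff]
    exact ⟨fun hx => ⟨x, hx, rfl⟩, fun ⟨y, hy, e⟩ => Subtype.ext e ▸ hy⟩
  have hπ : π ⟨g, hgC⟩ = π ⟨σ ^ l, hσl⟩ := by
    rw [← mul_inv_eq_one, ← map_inv, ← map_mul, hcore]; exact h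
  have hinj : ∀ n : ℕ, π (⟨σ ^ l, hσl⟩ ^ n) = 1 → (σ ^ l) ^ n = 1 := fun n e =>
    eq_one_of_core D (pow_mem (pow_mem D.memσ l) n) (by simpa using (hcore _).mp e)
  have heven : 2 ∣ orderOf g := by
    by_contra hodd
    have h1 : (σ ^ l) ^ orderOf g = 1 := hinj _ (by
      rw [map_pow, ← hπ, ← map_pow, hcore]
      simp [pow_orderOf_eq_one])
    obtain ⟨k, hk⟩ := exists_orderOf D (pow_mem D.memσ l)
    have h2 := orderOf_dvd_of_pow_eq_one h1
    rw [hk] at h2
    rcases Nat.eq_zero_or_pos k with rfl | hk0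
    · exact pow_ne_one D h0 hl (orderOf_eq_one_iff.mp (hk.trans (pow_zero 2)))
    · exact hodd ((dvd_pow_self 2 hk0.ne').trans h2)
  set d := orderOf g / 2 with hd
  have hd2 : d * 2 = orderOf g := Nat.div_mul_cancel heven
  have ht : orderOf (g ^ d) = 2 := by
    rw [orderOf_pow_of_dvd (by have := orderOf_pos g; omega) ⟨2, hd2.symm⟩, hd]
    exact Nat.div_div_self heven (orderOf_pos g).ne'
  have hs1 : (σ ^ l) ^ d ≠ 1 := fun e => by
    have h1 : g ^ d ∈ core σ m := by
      have := (hcore (⟨g, hgC⟩ ^ d)).mp (by rw [map_pow, hπ, ← map_pow]; exact (hcore _).mpr (by simp [e]))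
      simpa using this
    exact core_regular h1 (by rw [ht])
  have hs2 : (σ ^ l) ^ d * (σ ^ l) ^ d = 1 := by
    rw [← pow_add, show d + d = orderOf g by omega]
    exact hinj _ (by rw [map_pow, ← hπ, ← map_pow, hcore]; simp [pow_orderOf_eq_one])
  have hsz : (σ ^ l) ^ d = σ ^ m :=
    eq_z_of_sq D (pow_mem (pow_mem (Subgroup.mem_zpowers σ) l) d) hs2 hs1
  have htz : g ^ d = σ ^ m := by
    have hw : g ^ d * (σ ^ m)⁻¹ ∈ core σ m := by
      rw [← hsz]
      have := (hcore (⟨g, hgC⟩ ^ d * (⟨σ ^ l, hσl⟩ ^ d)⁻¹)).mp (by rw [map_mul, map_inv, map_pow, map_pow, hπ, mul_inv_cancel])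
      simpa using this
    have hcom : Commute (g ^ d) (σ ^ m) :=
      (show Commute g (σ ^ m) from Subgroup.mem_centralizer_singleton_iff.mp hgC).pow_left d
    have hw2 : g ^ d * (σ ^ m)⁻¹ * (g ^ d * (σ ^ m)⁻¹) = 1 := by
      rw [mul_assoc, ← mul_assoc _ (g ^ d), ← hcom.inv_right.eq, mul_assoc (g ^ d) (σ ^ m)⁻¹, ← mul_assoc,
        Invol.mul_self_of_orderOf_two ht, one_mul, ← mul_inv_rev, z_mul_self D, inv_one]
    by_contra hne
    exact core_regular hw (by
      rw [Invol.orderOf_two_of_mul_self hw2 fun e => hne (mul_inv_eq_one.mp e)])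
  rw [Subgroup.mem_centralizer_singleton_iff]
  refine mul_inv_eq_iff_eq_mul.mp ?_
  rw [← htz, ← conj_pow, hg, Invol.conj_prod hu hv, inv_pow, ← hg, htz, inv_eq_of_mul_eq_one_left (z_mul_self D)]

/-- The pairs of involutions with product in the coset of `σ ^ l`, with `σ ^ l` of order at least 4
or equal to `z`. -/
theorem pairs_eq {l : ℕ} (h0 : 0 < l) (hl : l < 2 * m) [DecidableEq G]
    [DecidablePred fun v : G × G => orderOf v.1 = 2 ∧ orderOf v.2 = 2 ∧ v.1 * v.2 * (σ ^ l)⁻¹ ∈ core σ m] :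
    (Finset.univ.filter fun v : G × G => orderOf v.1 = 2 ∧ orderOf v.2 = 2 ∧
        v.1 * v.2 * (σ ^ l)⁻¹ ∈ core σ m).card =
      ∑ i ∈ Finset.range (2 * m), (invs σ m (σ ^ i * τ)).card * (invs σ m (σ ^ i * τ * σ ^ l)).card := by
  classical
  have hm := two_le D
  have hPC := sylow_le_centralizer_z D
  rw [Finset.sum_congr rfl fun i _ => (Finset.card_product (invs σ m (σ ^ i * τ)) (invs σ m (σ ^ i * τ * σ ^ l))).symm,
    ← Finset.card_biUnion]
  · congr 1
    ext ⟨u, v⟩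
    simp only [Finset.mem_filter, Finset.mem_univ, true_and, Finset.mem_biUnion, Finset.mem_product,
      Finset.mem_range, mem_invs]
    constructor
    · rintro ⟨hu, hv, huv⟩
      obtain ⟨w, hw, p, hp, hup⟩ := fact_cz D (inverter_mem D h0 hl hu hv huv)
      have hσl : σ ^ l ∈ cz σ m := hPC (pow_mem D.memσ l)
      obtain ⟨j, rfl | rfl⟩ := D.cases p hp
      · exfalso
        have hcomσ : Commute w (σ ^ m) := Subgroup.mem_centralizer_singleton_iff.mp (core_le hw)
        have hsq : σ ^ j * σ ^ j = 1 := by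
          refine eq_one_of_core D (mul_mem hp hp) ?_
          have e := Invol.mul_self_of_orderOf_two hu
          rw [hup] at e
          have e2 : σ ^ j * σ ^ j = (σ ^ j * w * (σ ^ j)⁻¹)⁻¹ * w⁻¹ * (w * σ ^ j * (w * σ ^ j)) := by group
          rw [e2, e, mul_one]
          exact mul_mem (inv_mem (core_conj (hPC hp) hw)) (inv_mem hw)
        by_cases h1 : σ ^ j = 1
        · rw [h1, mul_one] at hup; exact core_regular hw (hup ▸ hu ▸ dvd_rfl)
        rw [eq_z_of_sq D (pow_mem (Subgroup.mem_zpowers σ) j) hsq h1] at hup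
        have hw1 : w = 1 := by
          have e := Invol.mul_self_of_orderOf_two hu
          rw [hup, mul_assoc, ← mul_assoc (σ ^ m), ← hcomσ.eq, mul_assoc w (σ ^ m), z_mul_self D, mul_one] at e
          by_contra hne
          exact core_regular hw (by rw [Invol.orderOf_two_of_mul_self e hne])
        rw [hw1, one_mul] at hup
        subst hup
        -- `v` lies in the coset of a rotation
        have hv' : v * (σ ^ m * σ ^ l)⁻¹ ∈ core σ m := by
          have e : v * (σ ^ m * σ ^ l)⁻¹ = (σ ^ m)⁻¹ * (σ ^ m * v * (σ ^ l)⁻¹) * (σ ^ m)⁻¹ := by group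
          rw [e, inv_eq_of_mul_eq_one_left (z_mul_self D)]
          have h5 := core_conj (hPC (pow_mem D.memσ m)) huv
          rwa [inv_eq_of_mul_eq_one_left (z_mul_self D)] at h5
        set r := σ ^ m * σ ^ l with hr
        have hrP : r ∈ (P : Subgroup G) := mul_mem (pow_mem D.memσ m) (pow_mem D.memσ l)
        have hr2 : r * r = 1 := by
          refine eq_one_of_core D (mul_mem hrP hrP) ?_
          have e2 : r * r = (r * (v * r⁻¹) * r⁻¹)⁻¹ * (v * r⁻¹)⁻¹ * (v * v) := by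
            simp only [mul_inv_rev, inv_inv, mul_assoc, inv_mul_cancel_left, mul_inv_cancel_left, inv_mul_cancel, mul_one]
          rw [e2, Invol.mul_self_of_orderOf_two hv, mul_one]
          exact mul_mem (inv_mem (core_conj (hPC hrP) hv')) (inv_mem hv')
        rw [hr, ← pow_add, ← pow_add, pow_eq_one_iff D] at hr2
        have hlm : l = m := by
          refine (pow_sq_eq_one_iff D h0 hl).mp ?_
          rw [← pow_add, pow_eq_one_iff D]
          obtain ⟨k, hk⟩ := hr2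
          obtain ⟨k', rfl⟩ : ∃ k', k = k' + 1 := ⟨k - 1, by rcases k with _ | k <;> omega⟩
          exact ⟨k', by rw [Nat.mul_add, mul_one] at hk; omega⟩
        have hr1 : r = 1 := by rw [hr, hlm, z_mul_self D]
        rw [hr1, inv_one, mul_one] at hv'
        exact core_regular hv' (by rw [hv])
      · have hj : σ ^ j = σ ^ (j % (2 * m)) := by rw [← D.ordσ, pow_mod_orderOf]
        refine ⟨j % (2 * m), Nat.mod_lt _ (by omega), ⟨hu, ?_⟩, hv, ?_⟩
        · rw [← hj, hup, mul_inv_cancel_right]; exact hw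
        · rw [← hj]
          set p := σ ^ j * τ
          have hpi : p⁻¹ = p := inv_eq_of_mul_eq_one_left (refl_sq D j)
          have e : v * (p * σ ^ l)⁻¹ = p⁻¹ * (w⁻¹ * (w * p * v * (σ ^ l)⁻¹)) * p⁻¹ := by group
          rw [e, ← hup]
          have h5 := core_conj (hPC (refl_mem D j)) (mul_mem (inv_mem hw) huv)
          rw [hpi] at h5 ⊢
          exact h5
    · rintro ⟨i, hi, ⟨hu, h1⟩, hv, h2⟩
      refine ⟨hu, hv, ?_⟩
      set p := σ ^ i * τ
      have hpi : p⁻¹ = p := inv_eq_of_mul_eq_one_left (refl_sq D i)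
      have hpp : p * p = 1 := refl_sq D i
      have e : u * v * (σ ^ l)⁻¹ = u * p⁻¹ * (p * (v * (p * σ ^ l)⁻¹) * p⁻¹) * (p * p) := by group
      rw [e, hpp, mul_one]
      exact mul_mem h1 (core_conj (hPC (refl_mem D i)) h2)
  · intro i hi j hj hij
    rw [Function.onFun, Finset.disjoint_left]
    rintro ⟨u, v⟩ h1 h2
    apply hij
    have a1 := (mem_invs.mp (Finset.mem_product.mp h1).1).2
    have a2 := (mem_invs.mp (Finset.mem_product.mp h2).1).2
    have e := eq_one_of_core D (mul_mem (refl_mem D j) (inv_mem (refl_mem D i))) (by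
      have := mul_mem (inv_mem a2) a1
      rwa [show (u * (σ ^ j * τ)⁻¹)⁻¹ * (u * (σ ^ i * τ)⁻¹) = σ ^ j * τ * (σ ^ i * τ)⁻¹ by group] at this)
    have e' := mul_right_cancel (mul_inv_eq_one.mp e)
    rw [pow_eq_pow_iff D, Nat.mod_eq_of_lt (Finset.mem_range.mp hj), Nat.mod_eq_of_lt (Finset.mem_range.mp hi)] at e'
    exact e'.symm

end CfsgLib.DihBlock
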