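import Cfsg.Agent.Lib.DihBlock.Basic
import Cfsg.Agent.Lib.DihBlock.Setup
import Cfsg.Agent.Lib.DihBlock.Centralizer
import Cfsg.Agent.Lib.DihBlock.Structure
import Cfsg.Agent.Lib.Blocks.BrauerFeit
import Cfsg.Agent.Lib.Transfer.Thompson
import Cfsg.Agent.S4482
import Mathlib.GroupTheory.FixedPointFree

/-!
# An involution whose centralizer is dihedral of order 8
-/

set_option autoImplicit false
set_option linter.unusedSectionVars false

namespace CfsgLib.DihBlock

open Cfsg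

variable {G : Type*} [Group G] [Finite G]

/-- The centralizer of the central involution is the whole Sylow subgroup, dihedral of order 8. -/
structure Eight (P : Sylow 2 G) (σ τ : G) : Prop where
  data : Data P σ τ 2
  cent : Subgroup.centralizer ({σ ^ 2} : Set G) = (P : Subgroup G)

theorem dih_four_facts : (∀ x : DihedralGroup 4, (∀ y, x * y = y * x) → x = 1 ∨ x = DihedralGroup.r 2) ∧
    (DihedralGroup.r 1 : DihedralGroup 4) ^ 2 = DihedralGroup.r 2 := by decide

theorem exists_eight {z : G} (hz : orderOf z = 2)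
    (e : ↥(Subgroup.centralizer ({z} : Set G)) ≃* DihedralGroup 4) :
    ∃ (P : Sylow 2 G) (σ τ : G), Eight P σ τ ∧ σ ^ 2 = z := by
  classical
  haveI := Fact.mk Nat.prime_two
  set C := Subgroup.centralizer ({z} : Set G) with hC
  have hc8 : Nat.card C = 8 := by rw [Nat.card_congr e.toEquiv, DihedralGroup.nat_card]
  obtain ⟨P, hP⟩ := (IsPGroup.of_card (p := 2) (G := C) (n := 3) (by rw [hc8]; norm_num)).exists_le_sylow
  have hzC : z ∈ C := Subgroup.mem_centralizer_singleton_iff.mpr rfl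
  have hcen : ∀ w (hw : w ∈ C), (∀ y ∈ C, w * y = y * w) → w = 1 ∨ (e ⟨w, hw⟩ = DihedralGroup.r 2) := by
    intro w hw hcomm
    rcases dih_four_facts.1 (e ⟨w, hw⟩) (fun y => by
      obtain ⟨⟨y, hy⟩, rfl⟩ := e.surjective y
      rw [← map_mul, ← map_mul]
      exact congrArg e (Subtype.ext (hcomm y hy))) with h | h
    · exact Or.inl (congrArg Subtype.val ((MulEquiv.map_eq_one_iff e).mp h))
    · exact Or.inr h
  have hez : e ⟨z, hzC⟩ = DihedralGroup.r 2 :=
    (hcen z hzC fun y hy => (Subgroup.mem_centralizer_singleton_iff.mp hy).symm).resolve_left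
      (Invol.ne_one_of_orderOf_two hz)
  have hPC : (P : Subgroup G) ≤ C := by
    haveI : Nontrivial (P : Subgroup G) :=
      ⟨⟨⟨z, hP hzC⟩, 1, fun h => Invol.ne_one_of_orderOf_two hz (congrArg Subtype.val h)⟩⟩
    haveI := P.2.center_nontrivial
    have h2 : 2 ∣ Nat.card (Subgroup.center (P : Subgroup G)) := by
      obtain ⟨n, hn0, hn⟩ := (P.2.to_subgroup (Subgroup.center (P : Subgroup G))).nontrivial_iff_card.mp inferInstance
      rw [hn]; exact dvd_pow_self 2 hn0.ne'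
    obtain ⟨w, hw⟩ := exists_prime_orderOf_dvd_card' 2 h2
    have hcomm : ∀ y ∈ (P : Subgroup G), ((w : (P : Subgroup G)) : G) * y = y * ((w : (P : Subgroup G)) : G) :=
      fun y hy => congrArg Subtype.val (Subgroup.mem_center_iff.mp w.2 ⟨y, hy⟩).symm
    have hwC : ((w : (P : Subgroup G)) : G) ∈ C :=
      Subgroup.mem_centralizer_singleton_iff.mpr (hcomm z (hP hzC))
    have hw1 : ((w : (P : Subgroup G)) : G) ≠ 1 := fun h => Invol.ne_one_of_orderOf_two hw
      (Subtype.ext (Subtype.ext h))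
    have hwz : ((w : (P : Subgroup G)) : G) = z := congrArg Subtype.val
      (e.injective (((hcen _ hwC fun y hy => hcomm y (hP hy)).resolve_left hw1).trans hez.symm))
    intro y hy
    exact Subgroup.mem_centralizer_singleton_iff.mpr (hwz ▸ (hcomm y hy).symm)
  have hPeq : (P : Subgroup G) = C := le_antisymm hPC hP
  let e' : (P : Subgroup G) ≃* DihedralGroup 4 := (MulEquiv.subgroupCongr hPeq).trans e
  set s := e.symm (DihedralGroup.r 1)
  have hσo : orderOf (s : G) = 4 := by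
    rw [Subgroup.orderOf_coe, MulEquiv.orderOf_eq, DihedralGroup.orderOf_r_one]
  obtain ⟨τ, hD⟩ := data_of_iso P (k := 1) one_pos (by norm_num) e' (σ := (s : G)) (hP s.2) hσo
  have hsq : (s : G) ^ 2 = z := by
    have h : s ^ 2 = ⟨z, hzC⟩ := e.injective (by rw [map_pow, e.apply_symm_apply, dih_four_facts.2, hez])
    exact congrArg Subtype.val h
  exact ⟨P, s, τ, ⟨by simpa using hD, by rw [hsq, hPeq]⟩, hsq⟩

/-- An involution-pair argument: no odd normal subgroup if three involutions of a four group act freely. -/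
theorem eq_bot_of_free {N : Subgroup G} [N.Normal] {u v : G}
    (hu : u * u = 1) (hv : v * v = 1) (huv : u * v * (u * v) = 1)
    (fu : ∀ a ∈ N, u * a * u⁻¹ = a → a = 1) (fv : ∀ a ∈ N, v * a * v⁻¹ = a → a = 1)
    (fuv : ∀ a ∈ N, u * v * a * (u * v)⁻¹ = a → a = 1) : N = ⊥ := by
  have inv : ∀ w : G, w * w = 1 → (∀ a ∈ N, w * a * w⁻¹ = a → a = 1) → ∀ a ∈ N, w * a * w⁻¹ = a⁻¹ := by
    intro w hw hf a ha
    let φ : N →* N := ((MulAut.conjNormal w : MulAut N) : N ≃* N).toMonoidHom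
    have hφ : MonoidHom.FixedPointFree φ := fun g hg => Subtype.ext (hf g g.2 (by
      have h := congrArg Subtype.val hg
      simpa [φ] using h))
    have h2 : Function.Involutive φ := fun g => Subtype.ext (by
      simp only [φ, MulEquiv.coe_toMonoidHom, MulAut.conjNormal_apply]
      rw [inv_eq_of_mul_eq_one_left hw, show w * (w * (g : G) * w) * w = (w * w) * g * (w * w) by group, hw,
        one_mul, mul_one])
    have h := congrArg Subtype.val (congrFun (hφ.coe_eq_inv_of_involutive h2) ⟨a, ha⟩)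
    simpa [φ] using h
  rw [Subgroup.eq_bot_iff_forall]
  intro a ha
  refine fuv a ha ?_
  have h1 := inv v hv fv a ha
  have h2 := inv u hu fu a⁻¹ (inv_mem ha)
  rw [inv_inv] at h2
  calc u * v * a * (u * v)⁻¹ = u * (v * a * v⁻¹) * u⁻¹ := by group
    _ = a := by rw [h1, h2]

namespace Eight

variable {P : Sylow 2 G} {σ τ : G} (E : Eight P σ τ)
include E

theorem swap : Eight P σ (σ * τ) := ⟨DihBlock.swap E.data, E.cent⟩

theorem card_cent : Nat.card (Subgroup.centralizer ({σ ^ 2} : Set G)) = 8 := by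
  rw [E.cent, E.data.card]

/-- A fixed element of odd order under a conjugate of `z` is trivial. -/
theorem free {N : Subgroup G} (hodd : Odd (Nat.card N)) {u : G} (hu : IsConj (σ ^ 2) u) :
    ∀ a ∈ N, u * a * u⁻¹ = a → a = 1 := by
  intro a ha hfix
  obtain ⟨g, hg⟩ := isConj_iff.mp hu
  have hmem : g⁻¹ * a * g ∈ Subgroup.centralizer ({σ ^ 2} : Set G) := by
    rw [Subgroup.mem_centralizer_singleton_iff]
    have h := mul_inv_eq_iff_eq_mul.mp hfix
    rw [← hg] at h
    calc g⁻¹ * a * g * σ ^ 2 = g⁻¹ * (a * (g * σ ^ 2 * g⁻¹)) * g := by group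
      _ = g⁻¹ * (g * σ ^ 2 * g⁻¹ * a) * g := by rw [h]
      _ = _ := by group
  have h8 : orderOf a ∣ 8 := by
    rw [← E.card_cent, show orderOf a = orderOf (g⁻¹ * a * g) by
      conv_rhs => rw [show g⁻¹ * a * g = g⁻¹ * a * g⁻¹⁻¹ by rw [inv_inv], Transfer.orderOf_conj]]
    exact Subgroup.orderOf_dvd_natCard _ hmem
  have hN : orderOf a ∣ Nat.card N := Subgroup.orderOf_dvd_natCard _ ha
  rw [← orderOf_eq_one_iff]
  have : (8 : ℕ).Coprime (Nat.card N) :=
    (show 8 = 2 ^ 3 by norm_num) ▸ (Nat.coprime_two_left.mpr hodd).pow_left 3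
  exact Nat.eq_one_of_dvd_coprimes this h8 hN

theorem z_mul_refl_conj : IsConj (σ * τ) (σ ^ 2 * (σ * τ)) ∧ IsConj τ (σ ^ 2 * τ) := by
  have h : ∀ t : G, t * t = 1 → t * σ * t⁻¹ = σ⁻¹ → IsConj t (σ ^ 2 * t) := by
    intro t ht hrel
    refine isConj_iff.mpr ⟨σ, ?_⟩
    have e : t * σ⁻¹ = σ * t := by
      rw [← hrel, inv_eq_of_mul_eq_one_left ht, mul_assoc t σ t, ← mul_assoc, ht, one_mul]
    rw [mul_assoc, e, ← mul_assoc, sq]
  exact ⟨h _ (DihBlock.swap E.data).sqτ (DihBlock.swap E.data).rel, h _ E.data.sqτ E.data.rel⟩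

theorem no_odd_normal (h : IsConj (σ ^ 2) (σ * τ)) {N : Subgroup G} [N.Normal]
    (hodd : Odd (Nat.card N)) : N = ⊥ := by
  have hz := z_mul_self E.data
  refine eq_bot_of_free hz (DihBlock.swap E.data).sqτ ?_ (E.free hodd (IsConj.refl _)) (E.free hodd h)
    (E.free hodd (h.trans E.z_mul_refl_conj.1))
  have hc := z_commute E.data (DihBlock.swap E.data).memτ
  rw [hc.symm.mul_mul_mul_comm, hz, (DihBlock.swap E.data).sqτ, one_mul]

theorem conj_of_involution (h₁ : IsConj (σ ^ 2) τ) (h₂ : IsConj (σ ^ 2) (σ * τ)) {v : G}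
    (hv : orderOf v = 2) : IsConj (σ ^ 2) v := by
  obtain ⟨T, hT⟩ := (Transfer.isPGroup_zpowers (p := 2) (x := v) ⟨1, hv⟩).exists_le_sylow
  obtain ⟨c, hc⟩ := MulAction.exists_smul_eq G T P
  have hcv : c * v * c⁻¹ ∈ (P : Subgroup G) := by
    rw [← hc]
    exact Subgroup.smul_mem_pointwise_smul _ (MulAut.conj c) _ (hT (Subgroup.mem_zpowers v))
  refine IsConj.trans ?_ (isConj_iff.mpr ⟨c, rfl⟩ : IsConj v (c * v * c⁻¹)).symm
  obtain ⟨i, hi | hi⟩ := E.data.cases _ hcv
  · rw [eq_z_of_sq E.data (x := c * v * c⁻¹) (hi ▸ pow_mem (Subgroup.mem_zpowers σ) i)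
      (Invol.mul_self_of_orderOf_two (by rw [Transfer.orderOf_conj, hv]))
      (Invol.ne_one_of_orderOf_two (by rw [Transfer.orderOf_conj, hv]))]
  · obtain ⟨j, hj | hj⟩ := refl_conj E.data i
    · exact h₁.trans (isConj_iff.mpr ⟨σ ^ j, by rw [hi, hj]⟩)
    · exact h₂.trans (isConj_iff.mpr ⟨σ ^ j, by rw [hi, hj]⟩)

theorem normalizer_le : Subgroup.normalizer ((P : Subgroup G) : Set G) ≤ (P : Subgroup G) := by
  intro g hg
  rw [← E.cent, Subgroup.mem_centralizer_singleton_iff]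
  have hcj : ∀ x ∈ (P : Subgroup G), g * x * g⁻¹ ∈ (P : Subgroup G) := fun x hx =>
    (Subgroup.mem_normalizer_iff.mp hg x).mp hx
  have hzP := pow_mem E.data.memσ 2
  have hcomm : ∀ y ∈ (P : Subgroup G), g * σ ^ 2 * g⁻¹ * y = y * (g * σ ^ 2 * g⁻¹) := by
    intro y hy
    have hy' : g⁻¹ * y * g ∈ (P : Subgroup G) := by
      rw [Subgroup.mem_normalizer_iff.mp hg (g⁻¹ * y * g), show g * (g⁻¹ * y * g) * g⁻¹ = y by group]
      exact hy
    calc g * σ ^ 2 * g⁻¹ * y = g * (σ ^ 2 * (g⁻¹ * y * g)) * g⁻¹ := by group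
      _ = g * ((g⁻¹ * y * g) * σ ^ 2) * g⁻¹ := by rw [(z_commute E.data hy').eq]
      _ = _ := by group
  have ho : orderOf (g * σ ^ 2 * g⁻¹) = 2 := by rw [Transfer.orderOf_conj, orderOf_z E.data]
  have hσ1 : σ ^ 1 * σ ^ 1 ≠ 1 := fun e => by
    have := (pow_sq_eq_one_iff E.data one_pos (by norm_num)).mp e
    omega
  have hrot : g * σ ^ 2 * g⁻¹ ∈ Subgroup.zpowers σ := by
    rw [← card_centralizer_rot E.data hσ1]
    exact Subgroup.mem_inf.mpr ⟨hcj _ hzP,
      Subgroup.mem_centralizer_singleton_iff.mpr (hcomm _ (pow_mem E.data.memσ 1))⟩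
  exact mul_inv_eq_iff_eq_mul.mp
    (eq_z_of_sq E.data hrot (Invol.mul_self_of_orderOf_two ho) (Invol.ne_one_of_orderOf_two ho))

theorem isSimple (h₁ : IsConj (σ ^ 2) τ) (h₂ : IsConj (σ ^ 2) (σ * τ)) : IsSimpleGroup G := by
  haveI := Fact.mk Nat.prime_two
  haveI : Nontrivial G := ⟨⟨σ ^ 2, 1, Invol.ne_one_of_orderOf_two (orderOf_z E.data)⟩⟩
  refine ⟨fun N hN => ?_⟩
  haveI := hN
  rcases Nat.even_or_odd (Nat.card N) with he | ho
  swap
  · exact Or.inl (E.no_odd_normal h₂ ho)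
  refine Or.inr ?_
  obtain ⟨v, hv⟩ := exists_prime_orderOf_dvd_card' (G := N) 2 (even_iff_two_dvd.mp he)
  have hz : σ ^ 2 ∈ N := by
    obtain ⟨c, hc⟩ := isConj_iff.mp (E.conj_of_involution h₁ h₂ (v := (v : G)) (by rw [Subgroup.orderOf_coe, hv])).symm
    rw [← hc]; exact hN.conj_mem _ v.2 c
  have hmem : ∀ w, IsConj (σ ^ 2) w → w ∈ N := fun w hw => by
    obtain ⟨c, hc⟩ := isConj_iff.mp hw
    rw [← hc]; exact hN.conj_mem _ hz c
  have hσ : σ ∈ N := (N.mul_mem_cancel_right (hmem _ h₁)).mp (hmem _ h₂)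
  have hPN : (P : Subgroup G) ≤ N := fun x hx => by
    obtain ⟨i, rfl | rfl⟩ := E.data.cases x hx
    · exact pow_mem hσ i
    · exact mul_mem (pow_mem hσ i) (hmem _ h₁)
  have h := Sylow.normalizer_sup_eq_top (P.subtype hPN)
  rw [Sylow.coe_subtype, Subgroup.subgroupOf_map_subtype, inf_eq_left.mpr hPN] at h
  rw [eq_top_iff, ← h]
  exact sup_le (E.normalizer_le.trans hPN) le_rfl

theorem card_pair (i : ℕ) : Nat.card (Subgroup.centralizer ({σ ^ 2, σ ^ i * τ} : Set G)) = 4 := by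
  rw [← card_centralizer_refl E.data i]
  congr 2
  ext g
  rw [Subgroup.mem_inf, ← E.cent]
  simp only [Subgroup.mem_centralizer_iff, Set.mem_insert_iff, Set.mem_singleton_iff, forall_eq_or_imp,
    forall_eq]

theorem card_eq (h₁ : IsConj (σ ^ 2) τ) (h₂ : IsConj (σ ^ 2) (σ * τ)) :
    Nat.card G = 168 ∨ Nat.card G = 360 := by
  classical
  letI := Fintype.ofFinite G
  haveI := Fact.mk Nat.prime_two
  obtain ⟨M, hM⟩ := Blocks.exists_isPModular (p := 2) Nat.prime_two
  obtain ⟨R⟩ := exists_rotations E.data hM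
    (Complex.isPrimitiveRoot_exp (2 * 2) (by norm_num))
  have hgen : Subgroup.closure ({σ, τ} : Set G) = (P : Subgroup G) := by
    refine le_antisymm ((Subgroup.closure_le _).mpr ?_) fun x hx => ?_
    · rintro x (rfl | rfl)
      exacts [E.data.memσ, E.data.memτ]
    · have hs : σ ∈ Subgroup.closure ({σ, τ} : Set G) := Subgroup.subset_closure (Or.inl rfl)
      obtain ⟨i, rfl | rfl⟩ := E.data.cases x hx
      · exact pow_mem hs i
      · exact mul_mem (pow_mem hs i) (Subgroup.subset_closure (Or.inr rfl))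
  obtain ⟨hne, hform⟩ := Cfsg.Agent.S4482.result M hM 3 le_rfl P σ τ E.data.memσ E.data.memτ
    (by rw [E.data.ordσ]; norm_num) (orderOf_tau E.data) E.data.rel hgen
    ⟨by simpa using h₁, by simpa using h₂⟩ R.a R.mem_a (fun e => R.ne_a (Subtype.ext e)) R.δ R.signδ
    (fun l h0 hl => R.val_a l h0 (by norm_num at hl ⊢; omega))
  have h21 : (2 : ℕ) ^ (3 - 2) = 2 := rfl
  have c0 := E.card_pair 0
  have c1 := E.card_pair 1
  rw [pow_zero, one_mul] at c0
  rw [pow_one] at c1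
  rw [h21, E.card_cent, c0, c1] at hform
  obtain ⟨n, hn⟩ := exists_mult R.a (pow_period E.data) (by norm_num) (c := 1) (one_pow _)
  set x := Cfsg.charDegree (R.a : G → ℂ) with hx
  have hx0 : 0 < x := (Blocks.irr_degree_eq R.a).2
  simp only [one_pow, mul_one, Finset.sum_range_succ, Finset.sum_range_zero, show (2 * 2 : ℕ) = 4 from rfl,
    pow_zero, zero_add, (Blocks.irr_degree_eq R.a).1] at hn
  rw [R.val_a 1 (by norm_num) (by norm_num), R.val_a 2 (by norm_num) (by norm_num),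
    R.val_a 3 (by norm_num) (by norm_num)] at hn
  have hn' : (x : ℤ) + 3 * R.δ = 4 * n := by
    apply Int.cast_injective (α := ℂ)
    push_cast
    linear_combination hn
  have hZ : (Nat.card G : ℤ) * ((x : ℤ) - R.δ) ^ 2 = 256 * x * ((x : ℤ) + R.δ) := by
    apply Int.cast_injective (α := ℚ)
    push_cast
    rw [hform]
    ring
  have h8 : ∃ o, Nat.card G = 8 * o ∧ ¬ 2 ∣ o :=
    ⟨(P : Subgroup G).index, by rw [← Subgroup.card_mul_index (P : Subgroup G), E.data.card], P.not_dvd_index⟩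
  obtain ⟨o, ho, hodd⟩ := h8
  set g : ℤ := ((Nat.card G : ℕ) : ℤ) with hg
  have hne' : (x : ℤ) - R.δ ≠ 0 := sub_ne_zero.mpr hne
  have hgo : g = 8 * (o : ℤ) := by rw [hg, ho]; push_cast; ring
  obtain ⟨e, hxe⟩ : ∃ e : ℤ, (x : ℤ) = 4 * e + R.δ := ⟨n - R.δ, by omega⟩
  have he0 : 0 < e := by rcases R.signδ with h | h <;> omega
  have hkey : g * e ^ 2 = 32 * ((8 * e ^ 2 + 1) + 6 * R.δ * e) := by
    have hδ : R.δ * R.δ = 1 := by rcases R.signδ with h | h <;> simp [h]
    rw [hxe] at hZ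
    refine mul_left_cancel₀ (show (16 : ℤ) ≠ 0 by norm_num) ?_
    linear_combination hZ + 512 * hδ
  have hle : e ≤ 32 := Int.le_of_dvd (by norm_num)
    (⟨g * e - 256 * e - 192 * R.δ, by linear_combination -hkey⟩ : e ∣ (32 : ℤ))
  rcases R.signδ with h | h <;> rw [h] at hkey <;> interval_cases e <;> norm_num at hkey <;> omega

/-- Thompson transfer at a reflection. -/
theorem conj_or_index_two : IsConj (σ ^ 2) τ ∨ ∃ H : Subgroup G, H.Normal ∧ H.index = 2 ∧ τ ∉ H := by
  haveI := Fact.mk Nat.prime_two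
  have hle : Subgroup.zpowers σ ≤ (P : Subgroup G) := Subgroup.zpowers_le.mpr E.data.memσ
  have hrel : (Subgroup.zpowers σ).relIndex (P : Subgroup G) = 2 := by
    have h := ((Subgroup.zpowers σ).subgroupOf (P : Subgroup G)).card_mul_index
    rw [Nat.card_congr (Subgroup.subgroupOfEquivOfLe hle).toEquiv, Nat.card_zpowers, E.data.ordσ,
      E.data.card] at h
    rw [Subgroup.relIndex]
    omega
  rcases Transfer.thompson_transfer P hrel E.data.sqτ E.data.memτ (tau_not_mem E.data) with h | ⟨g, -, hg⟩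
  · exact Or.inr h
  · refine Or.inl ((isConj_iff.mpr ⟨g, ?_⟩ : IsConj τ (σ ^ 2))).symm
    exact eq_z_of_sq E.data hg (Invol.mul_self_of_orderOf_two (by rw [Transfer.orderOf_conj, orderOf_tau E.data]))
      (Invol.ne_one_of_orderOf_two (by rw [Transfer.orderOf_conj, orderOf_tau E.data]))

theorem one_class_of_no_index_two (h : ∀ H : Subgroup G, H.index ≠ 2) :
    IsConj (σ ^ 2) τ ∧ IsConj (σ ^ 2) (σ * τ) :=
  ⟨E.conj_or_index_two.resolve_right fun ⟨H, _, hH, _⟩ => h H hH,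
    E.swap.conj_or_index_two.resolve_right fun ⟨H, _, hH, _⟩ => h H hH⟩

end Eight

/-- Simplicity and the two possible orders without subgroups of index two. -/
theorem simple_and_card_of_no_index_two {z : G} (hz : orderOf z = 2)
    (e : ↥(Subgroup.centralizer ({z} : Set G)) ≃* DihedralGroup 4) (h : ∀ H : Subgroup G, H.index ≠ 2) :
    IsSimpleGroup G ∧ (Nat.card G = 168 ∨ Nat.card G = 360) := by
  obtain ⟨P, σ, τ, E, -⟩ := exists_eight hz e
  obtain ⟨h₁, h₂⟩ := E.one_class_of_no_index_two h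
  exact ⟨E.isSimple h₁ h₂, E.card_eq h₁ h₂⟩

end CfsgLib.DihBlock
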