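import Cfsg.Agent.Lib.DihBlock.Eight
import Cfsg.Agent.Lib.Invol.KleinSylow
import Cfsg.Agent.Lib.PSolvable.Core
import Cfsg.Agent.S3278
import Mathlib.GroupTheory.GroupAction.ConjAct

/-!
# The groups with an involution centralizer dihedral of order 8
-/

set_option autoImplicit false
set_option linter.unusedSectionVars false
set_option linter.style.haveILetI false

namespace CfsgLib.DihBlock

open Cfsg

variable {G : Type*} [Group G] [Finite G]

theorem pPrimeCore_map_le (p : ℕ) (M : Subgroup G) [M.Normal] :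
    (pPrimeCore p M).map M.subtype ≤ pPrimeCore p G := by
  refine Transfer.le_pPrimeCore inferInstance ?_
  rw [Subgroup.card_map_of_injective M.subtype_injective]
  exact Transfer.pPrimeCore_coprime p

theorem equiv_perm_of_normalCore (H : Subgroup G) {n : ℕ} (hn : H.index = n) (hc : Nat.card G = n.factorial)
    (hcore : H.normalCore = ⊥) : Nonempty (G ≃* Equiv.Perm (Fin n)) := by
  classical
  let e : (G ⧸ H) ≃ Fin n := Finite.equivFinOfCardEq hn
  let f := MulAction.toPermHom G (G ⧸ H)
  have hinj : Function.Injective f := by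
    rw [← MonoidHom.ker_eq_bot_iff]
    rw [← hcore, Subgroup.normalCore_eq_ker]
  have hb : Function.Bijective f := (Nat.bijective_iff_injective_and_card f).mpr ⟨hinj, by
    rw [Nat.card_perm, show Nat.card (G ⧸ H) = n from hn, hc]⟩
  exact ⟨(MulEquiv.ofBijective f hb).trans e.permCongrHom⟩

namespace Eight

variable {P : Sylow 2 G} {σ τ : G} (E : Eight P σ τ)
include E

theorem sup_oddCore_eq_top {N : Subgroup G} (hN : N ≤ pPrimeCore 2 G)
    (h : (P : Subgroup G) ⊔ N = ⊤) :
    Subgroup.centralizer ({σ ^ 2} : Set G) ⊔ oddCore G = ⊤ := by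
  rw [E.cent, eq_top_iff, ← h]
  exact sup_le_sup_left hN _

theorem npc_of_no_fusion (h₁ : ¬ IsConj (σ ^ 2) τ) (h₂ : ¬ IsConj (σ ^ 2) (σ * τ)) :
    HasNormalPComplement 2 G := by
  haveI := Fact.mk Nat.prime_two
  refine Transfer.hasNormalPComplement_of_pAutomizers
    (Transfer.pAutomizers_of_sylow P fun Q hQ g hg hcop => ?_)
  have hmem : ∀ a ∈ Q, g * a * g⁻¹ ∈ Q := fun a ha => (Subgroup.mem_normalizer_iff.mp hg a).mp ha
  rw [Subgroup.mem_centralizer_iff]
  by_cases hzQ : σ ^ 2 ∈ Q
  · intro a _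
    have ho : orderOf (g * σ ^ 2 * g⁻¹) = 2 := by rw [Transfer.orderOf_conj, orderOf_z E.data]
    have hconj : IsConj (σ ^ 2) (g * σ ^ 2 * g⁻¹) := isConj_iff.mpr ⟨g, rfl⟩
    have hfix : g * σ ^ 2 * g⁻¹ = σ ^ 2 := by
      obtain ⟨i, hi | hi⟩ := E.data.cases _ (hQ (hmem _ hzQ))
      · exact eq_z_of_sq E.data (hi ▸ pow_mem (Subgroup.mem_zpowers σ) i)
          (Invol.mul_self_of_orderOf_two ho) (Invol.ne_one_of_orderOf_two ho)
      · exfalso
        obtain ⟨j, hj | hj⟩ := refl_conj E.data i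
        · exact h₁ (hconj.trans (isConj_iff.mpr ⟨σ ^ j, by rw [hi, hj]⟩ : IsConj τ (g * σ ^ 2 * g⁻¹)).symm)
        · exact h₂ (hconj.trans (isConj_iff.mpr ⟨σ ^ j, by rw [hi, hj]⟩ : IsConj (σ * τ) (g * σ ^ 2 * g⁻¹)).symm)
    have h8 : orderOf g ∣ 8 := by
      rw [← E.card_cent]
      exact Subgroup.orderOf_dvd_natCard _
        (Subgroup.mem_centralizer_singleton_iff.mpr (mul_inv_eq_iff_eq_mul.mp hfix))
    have h1 : g = 1 := orderOf_eq_one_iff.mp (Nat.eq_one_of_dvd_coprimes
      ((show 8 = 2 ^ 3 by norm_num) ▸ hcop.symm.pow_left 3) h8 dvd_rfl)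
    rw [h1, one_mul, mul_one]
  · intro a ha
    have hrot : ∀ b ∈ Q, b ∈ Subgroup.zpowers σ → b = 1 := fun b hb hbσ => by
      by_contra h
      exact hzQ ((Subgroup.zpowers_le.mpr hb) (z_mem_zpowers E.data hbσ h))
    by_cases ha1 : a = 1
    · rw [ha1, one_mul, mul_one]
    have hcases : ∀ b ∈ Q, b ≠ 1 → ∃ i, b = σ ^ i * τ := fun b hb hb1 => by
      obtain ⟨i, hi | hi⟩ := E.data.cases b (hQ hb)
      · exact absurd (hrot b hb (hi ▸ pow_mem (Subgroup.mem_zpowers σ) i)) hb1
      · exact ⟨i, hi⟩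
    obtain ⟨i, hi⟩ := hcases a ha ha1
    obtain ⟨j, hj⟩ := hcases _ (hmem a ha) (fun h => ha1 (conj_eq_one_iff.mp h))
    have hprod : a * (g * a * g⁻¹) = σ ^ i * (σ ^ j)⁻¹ := by
      rw [hi] at hj ⊢
      rw [hj, mul_assoc, ← mul_assoc τ, tau_mul_pow E.data, mul_assoc _ τ τ, E.data.sqτ, mul_one]
    have h1 : a * (g * a * g⁻¹) = 1 := hrot _ (mul_mem ha (hmem a ha)) (hprod ▸
      mul_mem (pow_mem (Subgroup.mem_zpowers σ) i) (inv_mem (pow_mem (Subgroup.mem_zpowers σ) j)))
    have hinv : a⁻¹ = a := inv_eq_of_mul_eq_one_left (by rw [hi]; exact refl_sq E.data i)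
    exact (mul_inv_eq_iff_eq_mul.mp (((eq_inv_of_mul_eq_one_right h1).trans hinv))).symm

/-- A nontrivial normal subgroup contains `z` when `z` is conjugate to a second class. -/
theorem z_mem_of_normal (h : IsConj (σ ^ 2) (σ * τ)) {N : Subgroup G} [hN : N.Normal] (hne : N ≠ ⊥) :
    σ ^ 2 ∈ N := by
  haveI := Fact.mk Nat.prime_two
  rcases Nat.even_or_odd (Nat.card N) with he | ho
  swap
  · exact absurd (E.no_odd_normal h ho) hne
  obtain ⟨v, hv⟩ := exists_prime_orderOf_dvd_card' (G := N) 2 (even_iff_two_dvd.mp he)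
  have hvo : orderOf (v : G) = 2 := by rw [Subgroup.orderOf_coe, hv]
  obtain ⟨T, hT⟩ := (Transfer.isPGroup_zpowers (p := 2) (x := (v : G)) ⟨1, hvo⟩).exists_le_sylow
  obtain ⟨c, hc⟩ := MulAction.exists_smul_eq G T P
  have hcP : c * v * c⁻¹ ∈ (P : Subgroup G) := by
    rw [← hc]
    exact Subgroup.smul_mem_pointwise_smul _ (MulAut.conj c) _ (hT (Subgroup.mem_zpowers _))
  have hcN : c * v * c⁻¹ ∈ N := hN.conj_mem _ v.2 c
  have hne1 : c * (v : G) * c⁻¹ ≠ 1 :=
    Invol.ne_one_of_orderOf_two (by rw [Transfer.orderOf_conj, hvo])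
  obtain ⟨i, hi | hi⟩ := E.data.cases _ hcP
  · exact Subgroup.zpowers_le.mpr hcN
      (z_mem_zpowers E.data (hi ▸ pow_mem (Subgroup.mem_zpowers σ) i) hne1)
  · rw [hi] at hcN
    have e : σ ^ 2 = σ * (σ ^ i * τ) * σ⁻¹ * (σ ^ i * τ) := by
      have hτ : τ * σ⁻¹ = σ * τ := by
        have h' := tau_mul_pow E.data 1
        rw [pow_one] at h'
        calc τ * σ⁻¹ = τ * σ⁻¹ * (τ * τ) := by rw [E.data.sqτ, mul_one]
          _ = τ * (σ⁻¹ * τ) * τ := by group
          _ = τ * (τ * σ) * τ := by rw [h']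
          _ = σ * τ := by rw [← mul_assoc, E.data.sqτ, one_mul]
      calc σ ^ 2 = σ * σ * (σ ^ i * τ * (σ ^ i * τ)) := by rw [refl_sq E.data, mul_one, sq]
        _ = σ * σ ^ i * (σ * τ) * (σ ^ i * τ) := by
          rw [show σ * σ * (σ ^ i * τ * (σ ^ i * τ)) = σ * (σ * σ ^ i) * (τ * (σ ^ i * τ)) by group,
            (Commute.self_pow σ i).eq]
          group
        _ = σ * (σ ^ i * τ) * σ⁻¹ * (σ ^ i * τ) := by rw [← hτ]; group
    rw [e]
    exact mul_mem (hN.conj_mem _ hcN σ) hcN

section Mixed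

variable {M : Subgroup G} [M.Normal] (hM : M.index = 2) (hτ : τ ∉ M) (h₂ : IsConj (σ ^ 2) (σ * τ))
include hM hτ h₂

theorem mem_facts : σ ^ 2 ∈ M ∧ σ * τ ∈ M ∧ σ ∉ M := by
  have hz : σ ^ 2 ∈ M := Subgroup.sq_mem_of_index_two hM σ
  obtain ⟨c, hc⟩ := isConj_iff.mp h₂
  have hst : σ * τ ∈ M := hc ▸ Subgroup.Normal.conj_mem ‹M.Normal› _ hz c
  exact ⟨hz, hst, fun hs => hτ ((M.mul_mem_cancel_left hs).mp hst)⟩

theorem inf_eq : M ⊓ (P : Subgroup G) = (P : Subgroup G) ⊓ Subgroup.centralizer ({σ ^ 1 * τ} : Set G) := by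
  obtain ⟨hz, hst, hs⟩ := E.mem_facts hM hτ h₂
  refine (Subgroup.eq_of_le_of_card_ge (fun x hx => ?_) ?_).symm
  · refine Subgroup.mem_inf.mpr ⟨?_, (Subgroup.mem_inf.mp hx).1⟩
    rcases centralizer_refl E.data 1 x hx with rfl | rfl | rfl | rfl
    · exact M.one_mem
    · exact hz
    · rw [pow_one]; exact hst
    · rw [pow_one]; exact M.mul_mem hz hst
  · rw [card_centralizer_refl E.data 1]
    have hdvd : Nat.card ↥(M ⊓ (P : Subgroup G)) ∣ 8 := by
      rw [show 8 = Nat.card (P : Subgroup G) from E.data.card.symm]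
      exact Subgroup.card_dvd_of_le inf_le_right
    have hne : Nat.card ↥(M ⊓ (P : Subgroup G)) ≠ 8 := fun e => hs (Subgroup.mem_inf.mp
      ((Subgroup.eq_of_le_of_card_ge (K := (P : Subgroup G)) inf_le_right (by rw [e, E.data.card])).symm ▸ E.data.memσ :
        σ ∈ M ⊓ (P : Subgroup G))).1
    have := (Nat.mem_divisors.mpr ⟨hdvd, by norm_num⟩ : Nat.card ↥(M ⊓ (P : Subgroup G)) ∈ Nat.divisors 8)
    rw [show Nat.divisors 8 = {1, 2, 4, 8} from rfl] at this
    simp only [Finset.mem_insert, Finset.mem_singleton] at this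
    omega

theorem card_inf : Nat.card ↥(M ⊓ (P : Subgroup G)) = 4 := by
  rw [E.inf_eq hM hτ h₂, card_centralizer_refl E.data 1]

theorem exists_sylow : ∃ V : Sylow 2 M, (V : Subgroup M) = (P : Subgroup G).subgroupOf M ∧
    IsKleinFour (V : Subgroup M) := by
  haveI := Fact.mk Nat.prime_two
  have hc : Nat.card ((P : Subgroup G).subgroupOf M) = 4 := by
    rw [← E.card_inf hM hτ h₂, ← Subgroup.card_map_of_injective M.subtype_injective,
      Subgroup.subgroupOf_map_subtype, inf_comm]
  have hidx : ¬ 2 ∣ ((P : Subgroup G).subgroupOf M).index := by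
    intro hd
    refine P.not_dvd_index ?_
    have h1 := ((P : Subgroup G).subgroupOf M).card_mul_index
    have h2 := M.card_mul_index
    have h3 := (P : Subgroup G).card_mul_index
    rw [hc] at h1
    rw [hM] at h2
    rw [E.data.card] at h3
    omega
  refine ⟨(P.2.comap_of_injective M.subtype M.subtype_injective).toSylow hidx, rfl, ⟨hc, ?_⟩⟩
  have hsq : ∀ x : ((P : Subgroup G).subgroupOf M), x ^ 2 = 1 := by
    intro x
    have hx : ((x : M) : G) ∈ M ⊓ (P : Subgroup G) := Subgroup.mem_inf.mpr ⟨(x : M).2, x.2⟩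
    rw [E.inf_eq hM hτ h₂] at hx
    refine Subtype.ext (Subtype.ext ?_)
    show ((x : M) : G) ^ 2 = 1
    rcases centralizer_refl E.data 1 _ hx with h | h | h | h <;> rw [h, sq]
    · rw [one_mul]
    · exact z_mul_self E.data
    · exact refl_sq E.data 1
    · rw [show σ ^ 2 * (σ ^ 1 * τ) = σ ^ 3 * τ by rw [← mul_assoc, ← pow_add]]
      exact refl_sq E.data 3
  haveI : Nontrivial ((P : Subgroup G).subgroupOf M) := Finite.one_lt_card_iff_nontrivial.mp (by rw [hc]; norm_num)
  show Monoid.exponent ((P : Subgroup G).subgroupOf M) = 2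
  refine le_antisymm (Nat.le_of_dvd two_pos (Monoid.exponent_dvd_of_forall_pow_eq_one hsq)) ?_
  by_contra hlt
  push Not at hlt
  have h0 := Monoid.exponent_ne_zero_of_finite (G := ((P : Subgroup G).subgroupOf M))
  have h1 : Monoid.exponent ((P : Subgroup G).subgroupOf M) = 1 := by omega
  exact not_subsingleton ((P : Subgroup G).subgroupOf M) (Monoid.exp_eq_one_iff.mp h1)

theorem top_of_complement {N : Subgroup M} [N.Normal] {V : Sylow 2 M}
    (hV : (V : Subgroup M) = (P : Subgroup G).subgroupOf M) (hc : Subgroup.IsComplement' N (V : Subgroup M)) :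
    Subgroup.centralizer ({σ ^ 2} : Set G) ⊔ oddCore G = ⊤ := by
  haveI := Fact.mk Nat.prime_two
  have hNc : N ≤ pPrimeCore 2 M := Transfer.le_pPrimeCore inferInstance (by
    rw [← hc.index_eq_card]
    exact ((Nat.prime_two.coprime_iff_not_dvd).mpr V.not_dvd_index).symm)
  refine E.sup_oddCore_eq_top ((Subgroup.map_mono hNc).trans (pPrimeCore_map_le 2 M)) ?_
  set S := (P : Subgroup G) ⊔ N.map M.subtype
  have hMS : M ≤ S := by
    intro x hx
    have htop := hc.sup_eq_top
    have hx' : (⟨x, hx⟩ : M) ∈ N ⊔ (V : Subgroup M) := htop ▸ Subgroup.mem_top _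
    obtain ⟨n, hn, v, hv, hnv⟩ := Subgroup.mem_sup_of_normal_left.mp hx'
    rw [← show (n : G) * v = x from congrArg Subtype.val hnv]
    exact mul_mem (Subgroup.mem_sup_right (Subgroup.mem_map_of_mem _ hn))
      (Subgroup.mem_sup_left (show (v : G) ∈ (P : Subgroup G) by rw [hV] at hv; exact hv))
  rw [eq_top_iff]
  intro x _
  by_cases hx : x ∈ M
  · exact hMS hx
  · have : x * τ ∈ M := (Subgroup.mul_mem_iff_of_index_two hM).mpr (iff_of_false hx hτ)
    rw [show x = x * τ * τ by rw [mul_assoc, E.data.sqτ, mul_one]]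
    exact mul_mem (hMS this) (Subgroup.mem_sup_left E.data.memτ)

theorem card_normalizer {V : Sylow 2 M} (hV : (V : Subgroup M) = (P : Subgroup G).subgroupOf M)
    (hK : IsKleinFour (V : Subgroup M)) (hone : ∀ s t : M, orderOf s = 2 → orderOf t = 2 → IsConj s t) :
    Nat.card (Subgroup.normalizer ((V : Subgroup M) : Set M)) = 12 := by
  classical
  haveI := Fact.mk Nat.prime_two
  haveI := hK
  haveI : IsMulCommutative (V : Subgroup M) := IsKleinFour.isMulCommutative
  obtain ⟨hz, hst, -⟩ := E.mem_facts hM hτ h₂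
  set N := Subgroup.normalizer ((V : Subgroup M) : Set M) with hN
  set z : M := ⟨σ ^ 2, hz⟩
  set u : M := ⟨σ * τ, hst⟩
  have hzV : z ∈ (V : Subgroup M) := by rw [hV]; exact pow_mem E.data.memσ 2
  have huV : u ∈ (V : Subgroup M) := by rw [hV]; exact mul_mem E.data.memσ E.data.memτ
  have hzo : orderOf z = 2 := by rw [Subgroup.orderOf_mk, orderOf_z E.data]
  have huo : orderOf u = 2 := by rw [Subgroup.orderOf_mk, orderOf_tau (DihBlock.swap E.data)]
  have hle : (V : Subgroup M) ≤ N := Subgroup.le_normalizer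
  have hVc : Nat.card (V : Subgroup M) = 4 := IsKleinFour.card_four
  set W := (V : Subgroup M).subgroupOf N with hW
  have hcardW : Nat.card W = 4 := by
    rw [Nat.card_congr (Subgroup.subgroupOfEquivOfLe hle).toEquiv, hVc]
  have hcent : ∀ n : M, n * z * n⁻¹ = z → n ∈ (V : Subgroup M) := by
    intro n hn
    rw [hV]
    show (n : G) ∈ (P : Subgroup G)
    rw [← E.cent, Subgroup.mem_centralizer_singleton_iff]
    exact mul_inv_eq_iff_eq_mul.mp (congrArg Subtype.val hn)
  obtain ⟨c, hc⟩ := isConj_iff.mp (hone z u hzo huo)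
  obtain ⟨n, hn, hnz⟩ := V.conj_eq_normalizer_conj_of_mem z c⁻¹ hzV (by rwa [inv_inv, hc])
  have hnV : n ∉ (V : Subgroup M) := by
    intro hmem
    have : n⁻¹ * z * n = z := by
      rw [mul_assoc, show z * n = n * z from congrArg Subtype.val
        (‹IsMulCommutative (V : Subgroup M)›.is_comm.comm ⟨z, hzV⟩ ⟨n, hmem⟩), inv_mul_cancel_left]
    rw [this, inv_inv, hc] at hnz
    have e : σ * τ = σ ^ 2 := congrArg Subtype.val hnz
    exact tau_not_mem E.data ((Subgroup.mul_mem_cancel_left _ (Subgroup.mem_zpowers σ)).mp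
      (e ▸ pow_mem (Subgroup.mem_zpowers σ) 2))
  have hWne : W.index ≠ 1 := fun h => hnV (by
    rw [Subgroup.index_eq_one, hW, Subgroup.subgroupOf_eq_top] at h
    exact h hn)
  have hodd : ¬ 2 ∣ W.index := fun h => V.not_dvd_index (h.trans (Subgroup.relIndex_dvd_index_of_le hle))
  let T := {w : (V : Subgroup M) // w ≠ 1}
  haveI := Fintype.ofFinite (V : Subgroup M)
  have hT : Nat.card T = 3 := by
    rw [Nat.card_eq_fintype_card, Fintype.card_subtype_compl, Fintype.card_subtype_eq,
      ← Nat.card_eq_fintype_card, hVc]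
  have hz1 : z ≠ 1 := Invol.ne_one_of_orderOf_two hzo
  let f : N ⧸ W → T := Quotient.lift (fun a : N => (⟨⟨(a : M) * z * (a : M)⁻¹,
      (Subgroup.mem_normalizer_iff.mp a.2 z).mp hzV⟩, fun h => hz1 (conj_eq_one_iff.mp (congrArg Subtype.val h))⟩ : T))
    (by
      intro a b hab
      have h0 : a⁻¹ * b ∈ W := QuotientGroup.leftRel_apply.mp hab
      have h : ((a⁻¹ * b : N) : M) ∈ (V : Subgroup M) := h0
      have hcomm : ((a⁻¹ * b : N) : M) * z = z * ((a⁻¹ * b : N) : M) := congrArg Subtype.val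
        (‹IsMulCommutative (V : Subgroup M)›.is_comm.comm ⟨_, h⟩ ⟨z, hzV⟩)
      refine Subtype.ext (Subtype.ext ?_)
      show (a : M) * z * (a : M)⁻¹ = (b : M) * z * (b : M)⁻¹
      simp only [Subgroup.coe_mul, Subgroup.coe_inv] at hcomm
      calc (a : M) * z * (a : M)⁻¹ = (a : M) * (z * ((a : M)⁻¹ * b)) * (b : M)⁻¹ := by group
        _ = (a : M) * ((a : M)⁻¹ * b * z) * (b : M)⁻¹ := by rw [hcomm]
        _ = _ := by group)
  have hf : Function.Injective f := by
    intro x y
    induction x using QuotientGroup.induction_on with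
    | _ a =>
      induction y using QuotientGroup.induction_on with
      | _ b =>
        intro hab
        have h : (a : M) * z * (a : M)⁻¹ = (b : M) * z * (b : M)⁻¹ :=
          congrArg Subtype.val (congrArg Subtype.val hab)
        refine QuotientGroup.eq.mpr (hcent ((a : M)⁻¹ * b) ?_)
        calc (a : M)⁻¹ * b * z * ((a : M)⁻¹ * b)⁻¹ = (a : M)⁻¹ * ((b : M) * z * (b : M)⁻¹) * a := by group
          _ = z := by rw [← h]; group
  have h3 : W.index ≤ 3 := hT ▸ Nat.card_le_card_of_injective f hf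
  have h0 : W.index ≠ 0 := Subgroup.index_ne_zero_of_finite
  have hidx : W.index = 3 := by
    interval_cases hi : W.index <;> simp_all
  rw [← W.card_mul_index, hcardW, hidx]

theorem card_or_simple {V : Sylow 2 M} (hV : (V : Subgroup M) = (P : Subgroup G).subgroupOf M)
    (hK : IsKleinFour (V : Subgroup M)) (hone : ∀ s t : M, orderOf s = 2 → orderOf t = 2 → IsConj s t) :
    Nat.card M = 12 ∨ IsSimpleGroup M := by
  classical
  haveI := Fact.mk Nat.prime_two
  haveI := hK
  haveI : IsMulCommutative (V : Subgroup M) := IsKleinFour.isMulCommutative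
  have hN12 := E.card_normalizer hM hτ h₂ hV hK hone
  by_cases hVn : (V : Subgroup M).Normal
  · refine Or.inl ?_
    rwa [Subgroup.normalizer_eq_top_iff.mpr hVn, Subgroup.card_top] at hN12
  refine Or.inr ?_
  obtain ⟨hz, hst, -⟩ := E.mem_facts hM hτ h₂
  haveI : Nontrivial M := ⟨⟨⟨σ ^ 2, hz⟩, 1, fun h =>
    Invol.ne_one_of_orderOf_two (orderOf_z E.data) (congrArg Subtype.val h)⟩⟩
  have hoddbot : ∀ K : Subgroup M, K.Normal → Odd (Nat.card K) → K = ⊥ := by
    intro K hKn ho
    haveI := hKn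
    have hoK : Odd (Nat.card (K.map M.subtype)) := by
      rwa [Subgroup.card_map_of_injective M.subtype_injective]
    have fr : ∀ w : M, IsConj (σ ^ 2) (w : G) → ∀ a ∈ K, w * a * w⁻¹ = a → a = 1 := fun w hw a ha h =>
      Subtype.ext (E.free hoK hw a (Subgroup.mem_map_of_mem _ ha) (congrArg Subtype.val h))
    refine eq_bot_of_free (u := ⟨σ ^ 2, hz⟩) (v := ⟨σ * τ, hst⟩) (Subtype.ext (z_mul_self E.data))
      (Subtype.ext (DihBlock.swap E.data).sqτ) (Subtype.ext ?_) (fr _ (IsConj.refl _)) (fr _ h₂)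
      (fr _ (h₂.trans E.z_mul_refl_conj.1))
    show σ ^ 2 * (σ * τ) * (σ ^ 2 * (σ * τ)) = 1
    rw [(z_commute E.data (DihBlock.swap E.data).memτ).symm.mul_mul_mul_comm, z_mul_self E.data,
      (DihBlock.swap E.data).sqτ, one_mul]
  refine ⟨fun K hKn => ?_⟩
  haveI := hKn
  rcases Nat.even_or_odd (Nat.card K) with he | ho
  swap
  · exact Or.inl (hoddbot K hKn ho)
  obtain ⟨w, hw⟩ := exists_prime_orderOf_dvd_card' (G := K) 2 (even_iff_two_dvd.mp he)
  have hinv : ∀ v : M, orderOf v = 2 → v ∈ K := fun v hv => by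
    obtain ⟨c, hc⟩ := isConj_iff.mp (hone (w : M) v (by rw [Subgroup.orderOf_coe, hw]) hv)
    rw [← hc]; exact hKn.conj_mem _ w.2 c
  have hVK : (V : Subgroup M) ≤ K := fun v hv => by
    by_cases h1 : v = 1
    · rw [h1]; exact one_mem _
    · refine hinv v (Invol.orderOf_two_of_mul_self ?_ h1)
      have h := Monoid.pow_exponent_eq_one (⟨v, hv⟩ : (V : Subgroup M))
      rw [IsKleinFour.exponent_two, sq] at h
      exact congrArg Subtype.val h
  refine Or.inr ?_
  set NM := Subgroup.normalizer ((V : Subgroup M) : Set M)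
  have htop : NM ⊔ K = ⊤ := by
    have h := Sylow.normalizer_sup_eq_top (V.subtype hVK)
    rwa [Sylow.coe_subtype, Subgroup.subgroupOf_map_subtype, inf_eq_left.mpr hVK] at h
  by_contra hKtop
  apply hVn
  -- inside `K` the Sylow subgroup is self-normalizing
  have hlt : ¬ NM ≤ K := fun h => hKtop (by rwa [sup_eq_right.mpr h] at htop)
  have hle4 : Nat.card ↥(NM ⊓ K) = 4 := by
    have h1 : 4 ∣ Nat.card ↥(NM ⊓ K) := IsKleinFour.card_four (G := (V : Subgroup M)) ▸
      Subgroup.card_dvd_of_le (le_inf Subgroup.le_normalizer hVK)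
    have h2 : Nat.card ↥(NM ⊓ K) ∣ 12 := hN12 ▸ Subgroup.card_dvd_of_le inf_le_left
    have h3 : Nat.card ↥(NM ⊓ K) ≠ 12 := fun e => hlt (inf_eq_left.mp
      (Subgroup.eq_of_le_of_card_ge inf_le_left (by rw [e, hN12])))
    have hle := Nat.le_of_dvd (by norm_num) h2
    have hpos : 0 < Nat.card ↥(NM ⊓ K) := Nat.card_pos
    obtain h | h | h : Nat.card ↥(NM ⊓ K) = 4 ∨ Nat.card ↥(NM ⊓ K) = 8 ∨ Nat.card ↥(NM ⊓ K) = 12 := by
      omega
    · exact h
    · rw [h] at h2; norm_num at h2
    · exact absurd h h3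
  have heq : NM ⊓ K = (V : Subgroup M) := (Subgroup.eq_of_le_of_card_ge
    (le_inf Subgroup.le_normalizer hVK) (by rw [hle4, IsKleinFour.card_four])).symm
  set VK : Sylow 2 K := V.subtype hVK
  have hnc : Subgroup.normalizer ((VK : Subgroup K) : Set K) ≤ Subgroup.centralizer ((VK : Subgroup K) : Set K) := by
    intro k hk
    have hkV : (k : M) ∈ (V : Subgroup M) := by
      rw [← heq]
      refine Subgroup.mem_inf.mpr ⟨?_, k.2⟩
      have h := Subgroup.le_normalizer_map K.subtype (Subgroup.mem_map_of_mem K.subtype hk)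
      rwa [Sylow.coe_subtype, Subgroup.subgroupOf_map_subtype, inf_eq_left.mpr hVK] at h
    rw [Subgroup.mem_centralizer_iff]
    intro a ha
    have h := congrArg Subtype.val
      (‹IsMulCommutative (V : Subgroup M)›.is_comm.comm (⟨(a : M), ha⟩ : (V : Subgroup M)) ⟨k, hkV⟩)
    exact Subtype.ext h
  have hnpc := Transfer.hasNormalPComplement_of_normalizer_le_centralizer VK hnc
  have hcore : (pPrimeCore 2 K).map K.subtype = ⊥ := hoddbot _ inferInstance (by
    rw [Subgroup.card_map_of_injective K.subtype_injective]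
    exact Nat.coprime_two_right.mp (Transfer.pPrimeCore_coprime 2))
  have hbot : pPrimeCore 2 K = ⊥ := (Subgroup.map_eq_bot_iff_of_injective _ K.subtype_injective).mp hcore
  have hKV : (VK : Subgroup K) = ⊤ := by
    have h := Transfer.sylow_sup_pResidual VK
    rwa [← Transfer.pPrimeCore_eq_pResidual hnpc, hbot, sup_bot_eq] at h
  have : (V : Subgroup M) = K := by
    refine le_antisymm hVK fun k hk => ?_
    have : (⟨k, hk⟩ : K) ∈ (VK : Subgroup K) := hKV ▸ Subgroup.mem_top _
    exact this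
  rw [this]; exact hKn

theorem iso_or_complement :
    Subgroup.centralizer ({σ ^ 2} : Set G) ⊔ oddCore G = ⊤ ∨
      Nonempty (G ≃* Equiv.Perm (Fin 4)) ∨ Nonempty (G ≃* Equiv.Perm (Fin 5)) := by
  classical
  haveI := Fact.mk Nat.prime_two
  obtain ⟨V, hV, hK⟩ := E.exists_sylow hM hτ h₂
  rcases Invol.klein_complement_or_one_class V hK with ⟨N, hN, hc⟩ | hone
  · haveI := hN
    exact Or.inl (E.top_of_complement hM hτ h₂ hV hc)
  have hcardG : Nat.card G = 2 * Nat.card M := by rw [← M.card_mul_index, hM, mul_comm]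
  refine Or.inr ?_
  rcases E.card_or_simple hM hτ h₂ hV hK hone with h12 | hs
  · refine Or.inl ?_
    haveI := Fact.mk Nat.prime_three
    obtain ⟨T⟩ := (inferInstance : Nonempty (Sylow 3 G))
    have h24 : Nat.card G = 24 := by omega
    have hT : Nat.card (T : Subgroup G) = 3 := by
      rw [T.card_eq_multiplicity, h24]
      decide +kernel
    have hn3 : Nat.card (Sylow 3 G) ∣ 8 := by
      have h := T.card_dvd_index
      have h2 := (T : Subgroup G).card_mul_index
      rw [hT, h24] at h2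
      rwa [show (T : Subgroup G).index = 8 by omega] at h
    have hmod := card_sylow_modEq_one 3 G
    have hne : Nat.card (Sylow 3 G) ≠ 1 := by
      intro h1
      rw [T.card_eq_index_normalizer, Subgroup.index_eq_one] at h1
      haveI : (T : Subgroup G).Normal := Subgroup.normalizer_eq_top_iff.mp h1
      have hb := E.no_odd_normal h₂ (N := (T : Subgroup G)) (by rw [hT]; decide)
      rw [hb, Subgroup.card_bot] at hT
      omega
    have h4 : Nat.card (Sylow 3 G) = 4 := by
      have := Nat.le_of_dvd (by norm_num) hn3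
      unfold Nat.ModEq at hmod
      interval_cases hi : Nat.card (Sylow 3 G) <;> simp_all
    rw [T.card_eq_index_normalizer] at h4
    refine equiv_perm_of_normalCore _ h4 (by rw [h24]; rfl) ?_
    by_contra hne'
    set H := Subgroup.normalizer (T : Set G) with hHdef
    have hzH := E.z_mem_of_normal h₂ hne'
    obtain ⟨c, hc⟩ := isConj_iff.mp h₂
    have hst : σ * τ ∈ H.normalCore := hc ▸ (Subgroup.normalCore_normal H).conj_mem _ hzH c
    have h4le : 4 ∣ Nat.card H := by
      rw [← card_centralizer_refl E.data 1]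
      refine Subgroup.card_dvd_of_le fun x hx => Subgroup.normalCore_le H ?_
      rcases centralizer_refl E.data 1 x hx with rfl | rfl | rfl | rfl
      · exact one_mem _
      · exact hzH
      · rw [pow_one]; exact hst
      · rw [pow_one]; exact mul_mem hzH hst
    have h6 := H.card_mul_index
    rw [h4, h24] at h6
    omega
  · refine Or.inr ?_
    haveI := hs
    obtain ⟨hz, hst, -⟩ := E.mem_facts hM hτ h₂
    set z : M := ⟨σ ^ 2, hz⟩
    have hcz : Subgroup.centralizer ({z} : Set M) = (V : Subgroup M) := by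
      ext a
      rw [hV, Subgroup.mem_subgroupOf, ← E.cent, Subgroup.mem_centralizer_singleton_iff,
        Subgroup.mem_centralizer_singleton_iff]
      exact ⟨congrArg Subtype.val, fun h => Subtype.ext h⟩
    obtain ⟨e⟩ := Cfsg.Agent.S3278.result z (by rw [Subgroup.orderOf_mk, orderOf_z E.data]) (V : Subgroup M)
      hcz.ge hK (by rw [hcz, Subgroup.relIndex_self]; norm_num) (by rw [hcz, Subgroup.subgroupOf_self]; infer_instance)
    have h60 : Nat.card M = 60 := by
      rw [Nat.card_congr e.toEquiv, nat_card_alternatingGroup, Nat.card_eq_fintype_card, Fintype.card_fin]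
      decide
    set W : Subgroup G := (V : Subgroup M).map M.subtype with hW
    have hWeq : W = M ⊓ (P : Subgroup G) := by
      rw [hW, hV, Subgroup.subgroupOf_map_subtype, inf_comm]
    set H := Subgroup.normalizer (W : Set G) with hH
    have hcomap : H.subgroupOf M = Subgroup.normalizer ((V : Subgroup M) : Set M) := by
      ext a
      rw [Subgroup.mem_subgroupOf, Subgroup.mem_normalizer_iff, Subgroup.mem_normalizer_iff]
      constructor
      · intro h b
        rw [← Subgroup.mem_map_iff_mem M.subtype_injective, ← Subgroup.mem_map_iff_mem M.subtype_injective]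
        exact h b
      · intro h b
        by_cases hb : b ∈ M
        · have h' := h ⟨b, hb⟩
          rw [← Subgroup.mem_map_iff_mem M.subtype_injective, ← Subgroup.mem_map_iff_mem M.subtype_injective] at h'
          exact h'
        · refine iff_of_false (fun hc => hb (Subgroup.map_subtype_le _ hc)) fun hc => hb ?_
          have := Subgroup.map_subtype_le _ hc
          have h2 := mul_mem (mul_mem (inv_mem a.2) this) a.2
          rwa [show (a : G)⁻¹ * ((a : G) * b * (a : G)⁻¹) * (a : G) = b by group] at h2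
    have hτH : τ ∈ H := by
      have hPn : ∀ x ∈ (P : Subgroup G), ∀ b ∈ W, x * b * x⁻¹ ∈ W := by
        intro x hx b hb
        rw [hWeq, Subgroup.mem_inf] at hb ⊢
        exact ⟨Subgroup.Normal.conj_mem ‹M.Normal› b hb.1 x, mul_mem (mul_mem hx hb.2) (inv_mem hx)⟩
      rw [Subgroup.mem_normalizer_iff]
      refine fun b => ⟨hPn τ E.data.memτ b, fun hb => ?_⟩
      have := hPn τ⁻¹ (inv_mem E.data.memτ) _ hb
      rwa [show τ⁻¹ * (τ * b * τ⁻¹) * τ⁻¹⁻¹ = b by group] at this
    have h12 : Nat.card (H.subgroupOf M) = 12 := by rw [hcomap]; exact E.card_normalizer hM hτ h₂ hV hK hone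
    have hrel : M.relIndex H = 2 := by
      refine (Nat.dvd_prime Nat.prime_two).mp (hM ▸ Subgroup.relIndex_dvd_index_of_normal M H) |>.resolve_left ?_
      intro h
      exact hτ (Subgroup.relIndex_eq_one.mp h hτH)
    have h24 : Nat.card H = 24 := by
      have h := (M.subgroupOf H).card_mul_index
      rw [show (M.subgroupOf H).index = 2 from hrel,
        show Nat.card (M.subgroupOf H) = 12 by
          rw [← Subgroup.card_map_of_injective H.subtype_injective, Subgroup.subgroupOf_map_subtype, inf_comm,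
            ← Subgroup.subgroupOf_map_subtype, Subgroup.card_map_of_injective M.subtype_injective, h12]] at h
      omega
    have hidx : H.index = 5 := by
      have h := H.card_mul_index
      rw [h24, hcardG, h60] at h
      omega
    refine equiv_perm_of_normalCore H hidx (by rw [hcardG, h60]; rfl) ?_
    by_contra hne
    haveI := Subgroup.normalCore_normal H
    rcases (inferInstance : (H.normalCore.subgroupOf M).Normal).eq_bot_or_eq_top with hb | ht
    · have hzH := E.z_mem_of_normal h₂ hne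
      have : z ∈ H.normalCore.subgroupOf M := hzH
      rw [hb, Subgroup.mem_bot] at this
      exact Invol.ne_one_of_orderOf_two (orderOf_z E.data) (congrArg Subtype.val this)
    · have hMH : M ≤ H := (Subgroup.subgroupOf_eq_top.mp ht).trans (Subgroup.normalCore_le H)
      have := Subgroup.card_le_of_le hMH
      omega

end Mixed

end Eight

end CfsgLib.DihBlock
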